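import Groth.Prelude.Def_DerSch
import Groth.Agent.PerfB.StalkKFlat
import Groth.Agent.Dcoh.MapDer

/-!
# The stalk functor on derived categories

* `stalkIso x : DerSch.stalkFunctor X x ≅ stalkF x`; exactness of `DerSch.stalkFunctor` and `DerSch.stalkOver`;
* `stalkD x : D(O_X) ⥤ D(O_{X,x})`, `stalkOverD f x : D(O_X) ⥤ D(O_{Y, f x})`;
* `hasTorAmplitudeAt_iff`, `hasTorAmplitudeD_iff`, `locFiniteTorAmplitudeD_iff`: the stalkwise amplitudes are
  conditions on `stalkOverD f x (toD F)`, in particular they only depend on the class in `D(O_X)`.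
-/

set_option autoImplicit false
universe u
open CategoryTheory CategoryTheory.Limits AlgebraicGeometry
attribute [local instance] HasDerivedCategory.standard

namespace K238.StalkD

open Groth.Agent Groth.Agent.Dcoh.Stalk Groth.Agent.PerfB.StalkKFlat

variable {X Y Z : Scheme.{u}}

lemma stalkFunctor_map_eq {M N : X.Modules} (φ : M ⟶ N) (x : X) :
    (DerSch.stalkFunctor X x).map φ = (stalkF x).map φ := by
  ext m
  obtain ⟨U, hU, s, rfl⟩ := M.presheaf.exists_germ_eq (x := x) m
  exact (DerSch.stalkFunctor_map_germ x φ U hU s).trans (Dcoh.FlatTor.stalkF_map_germ x φ U hU s).symm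

/-- The stalk functor of the prelude is the one of the library. -/
noncomputable def stalkIso (x : X) : DerSch.stalkFunctor X x ≅ stalkF x :=
  NatIso.ofComponents (fun _ => Iso.refl _) (fun φ =>
    (Category.comp_id ((DerSch.stalkFunctor X x).map φ)).trans
      ((stalkFunctor_map_eq φ x).trans (Category.id_comp ((stalkF x).map φ)).symm))

instance preservesFiniteLimits_stalkFunctor (x : X) : PreservesFiniteLimits (DerSch.stalkFunctor X x) :=
  preservesFiniteLimits_of_natIso (stalkIso x).symm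

instance preservesFiniteColimits_stalkFunctor (x : X) : PreservesFiniteColimits (DerSch.stalkFunctor X x) :=
  preservesFiniteColimits_of_natIso (stalkIso x).symm

/-- The stalk at `x` as an object of the derived category of the local ring. -/
noncomputable abbrev stalkD (x : X) : DCoh.D X ⥤ Dual.D (X.presheaf.stalk x) :=
  (stalkF x).mapDerivedCategory

/-- The stalk at `x`, in the derived category of the local ring of `Y` at `f x`. -/
noncomputable abbrev stalkOverD (f : X ⟶ Y) (x : X) : DCoh.D X ⥤ Dual.D (Y.presheaf.stalk (f.base x)) :=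
  stalkD x ⋙ DRing.restrictD (f.stalkMap x).hom

/-- `Q (F_x) ≅ (Q F)_x`. -/
noncomputable def stalkQ (x : X) (F : CochainComplex X.Modules ℤ) :
    DRing.toD (((DerSch.stalkFunctor X x).mapHomologicalComplex (ComplexShape.up ℤ)).obj F) ≅
      (stalkD x).obj (DCoh.toD X F) :=
  DerivedCategory.Q.mapIso ((NatIso.mapHomologicalComplex (stalkIso x) (ComplexShape.up ℤ)).app F) ≪≫
    ((stalkF x).mapDerivedCategoryFactors.app F).symm

/-- The stalk complex over the base, in the derived category. -/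
noncomputable def stalkOverQ (f : X ⟶ Y) (x : X) (F : CochainComplex X.Modules ℤ) :
    DRing.toD ((DerSch.stalkCxOver f x).obj F) ≅ (stalkOverD f x).obj (DCoh.toD X F) :=
  ((ModuleCat.restrictScalars.{u} (f.stalkMap x).hom).mapDerivedCategoryFactors.app
    (((DerSch.stalkFunctor X x).mapHomologicalComplex (ComplexShape.up ℤ)).obj F)).symm ≪≫
    (DRing.restrictD (f.stalkMap x).hom).mapIso (stalkQ x F)

lemma torAmp_of_iso {A : Type u} [CommRing A] {a b : ℤ} {K L : Dual.D A} (e : K ≅ L)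
    (h : DRing.HasTorAmplitudeIn A a b K) : DRing.HasTorAmplitudeIn A a b L := by
  obtain ⟨E, h1, h2, ⟨h3⟩⟩ := h
  exact ⟨E, h1, h2, ⟨h3 ≪≫ e⟩⟩

lemma torAmp_iff_of_iso {A : Type u} [CommRing A] {a b : ℤ} {K L : Dual.D A} (e : K ≅ L) :
    DRing.HasTorAmplitudeIn A a b K ↔ DRing.HasTorAmplitudeIn A a b L :=
  ⟨torAmp_of_iso e, torAmp_of_iso e.symm⟩

lemma torAmp_mono {A : Type u} [CommRing A] {a b a' b' : ℤ} {K : Dual.D A} (ha : a' ≤ a) (hb : b ≤ b')
    (h : DRing.HasTorAmplitudeIn A a b K) : DRing.HasTorAmplitudeIn A a' b' K := by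
  obtain ⟨E, h1, h2, h3⟩ := h
  exact ⟨E, fun i hi => h1 i (by omega), h2, h3⟩

/-- The stalkwise amplitude at `x` is a condition on the stalk in the derived category. -/
theorem hasTorAmplitudeAt_iff (f : X ⟶ Y) (a b : ℤ) (F : CochainComplex X.Modules ℤ) (x : X) :
    DerSch.HasTorAmplitudeAt f a b F x ↔
      DRing.HasTorAmplitudeIn (Y.presheaf.stalk (f.base x)) a b ((stalkOverD f x).obj (DCoh.toD X F)) :=
  torAmp_iff_of_iso (stalkOverQ f x F)

theorem hasTorAmplitudeAt_of_iso {f : X ⟶ Y} {a b : ℤ} {F G : CochainComplex X.Modules ℤ} {x : X}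
    (e : DCoh.toD X F ≅ DCoh.toD X G) (h : DerSch.HasTorAmplitudeAt f a b F x) :
    DerSch.HasTorAmplitudeAt f a b G x := by
  rw [hasTorAmplitudeAt_iff] at h ⊢
  exact torAmp_of_iso ((stalkOverD f x).mapIso e) h

theorem hasTorAmplitudeAt_mono {f : X ⟶ Y} {a b a' b' : ℤ} {F : CochainComplex X.Modules ℤ} {x : X}
    (ha : a' ≤ a) (hb : b ≤ b') (h : DerSch.HasTorAmplitudeAt f a b F x) :
    DerSch.HasTorAmplitudeAt f a' b' F x := torAmp_mono ha hb h

theorem hasTorAmplitude_iff (f : X ⟶ Y) (a b : ℤ) (F : CochainComplex X.Modules ℤ) :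
    DerSch.HasTorAmplitude f a b F ↔ ∀ x : X,
      DRing.HasTorAmplitudeIn (Y.presheaf.stalk (f.base x)) a b ((stalkOverD f x).obj (DCoh.toD X F)) :=
  forall_congr' fun x => hasTorAmplitudeAt_iff f a b F x

theorem hasTorAmplitude_of_iso {f : X ⟶ Y} {a b : ℤ} {F G : CochainComplex X.Modules ℤ}
    (e : DCoh.toD X F ≅ DCoh.toD X G) (h : DerSch.HasTorAmplitude f a b F) :
    DerSch.HasTorAmplitude f a b G := fun x => hasTorAmplitudeAt_of_iso e (h x)

theorem hasTorAmplitudeD_iff (f : X ⟶ Y) (a b : ℤ) (K : DCoh.D X) :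
    DerSch.HasTorAmplitudeD f a b K ↔ ∀ x : X,
      DRing.HasTorAmplitudeIn (Y.presheaf.stalk (f.base x)) a b ((stalkOverD f x).obj K) := by
  constructor
  · intro h x
    have e := DerivedCategory.Q.objObjPreimageIso K
    exact torAmp_of_iso ((stalkOverD f x).mapIso e)
      ((hasTorAmplitude_iff f a b _).1 (h (DerivedCategory.Q.objPreimage K) ⟨e⟩) x)
  · rintro h F ⟨e⟩
    rw [hasTorAmplitude_iff]
    exact fun x => torAmp_of_iso ((stalkOverD f x).mapIso e.symm) (h x)

/-- For the class of a complex the two notions agree. -/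
theorem hasTorAmplitudeD_toD_iff (f : X ⟶ Y) (a b : ℤ) (F : CochainComplex X.Modules ℤ) :
    DerSch.HasTorAmplitudeD f a b (DCoh.toD X F) ↔ DerSch.HasTorAmplitude f a b F := by
  rw [hasTorAmplitudeD_iff, hasTorAmplitude_iff]

theorem locFiniteTorAmplitude_iff (f : X ⟶ Y) (F : CochainComplex X.Modules ℤ) :
    DerSch.LocFiniteTorAmplitude f F ↔ ∀ x : X, ∃ (V : X.Opens) (a b : ℤ), x ∈ V ∧ ∀ x' : X, x' ∈ V →
      DRing.HasTorAmplitudeIn (Y.presheaf.stalk (f.base x')) a b ((stalkOverD f x').obj (DCoh.toD X F)) := by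
  simp only [DerSch.LocFiniteTorAmplitude, hasTorAmplitudeAt_iff]

theorem locFiniteTorAmplitudeD_iff (f : X ⟶ Y) (K : DCoh.D X) :
    DerSch.LocFiniteTorAmplitudeD f K ↔ ∀ x : X, ∃ (V : X.Opens) (a b : ℤ), x ∈ V ∧ ∀ x' : X, x' ∈ V →
      DRing.HasTorAmplitudeIn (Y.presheaf.stalk (f.base x')) a b ((stalkOverD f x').obj K) := by
  constructor
  · intro h x
    have e := DerivedCategory.Q.objObjPreimageIso K
    obtain ⟨V, a, b, hx, h1⟩ := (locFiniteTorAmplitude_iff f _).1 (h (DerivedCategory.Q.objPreimage K) ⟨e⟩) x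
    exact ⟨V, a, b, hx, fun x' hx' => torAmp_of_iso ((stalkOverD f x').mapIso e) (h1 x' hx')⟩
  · rintro h F ⟨e⟩
    rw [locFiniteTorAmplitude_iff]
    intro x
    obtain ⟨V, a, b, hx, h1⟩ := h x
    exact ⟨V, a, b, hx, fun x' hx' => torAmp_of_iso ((stalkOverD f x').mapIso e.symm) (h1 x' hx')⟩

theorem locFiniteTorAmplitudeD_toD_iff (f : X ⟶ Y) (F : CochainComplex X.Modules ℤ) :
    DerSch.LocFiniteTorAmplitudeD f (DCoh.toD X F) ↔ DerSch.LocFiniteTorAmplitude f F := by
  rw [locFiniteTorAmplitudeD_iff, locFiniteTorAmplitude_iff]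

end K238.StalkD
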