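import Groth.Agent.KSix.K238.RingK
import Groth.Agent.KSix.K238.StalkD

/-!
# `C ⊗^L_B L` as an object of `D(B)`

`nonempty_lten_self`: `(C|_B) ⊗^L_B L ≅ (LBaseChange ψ L)|_B` for `ψ : B → C`.
-/

set_option autoImplicit false
universe u
open CategoryTheory CategoryTheory.Limits MonoidalCategory
attribute [local instance] HasDerivedCategory.standard

namespace K238.RingSelf

open DerivedCategory Groth.Agent Groth.Agent.LoccohB Groth.Agent.LoccohB.LBC Groth.Agent.LoccohB.BCUnit
  Groth.Agent.Dcoh.KFlatAbs Groth.Agent.PerfB.RingKFlat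

variable {B C : Type u} [CommRing B] [CommRing C] (ψ : B →+* C)

/-- `C ⊗_B M` as a `B`-module. -/
noncomputable def extResEquiv (M : ModuleCat.{u} B) :
    ((ModuleCat.restrictScalars.{u} ψ).obj ((ModuleCat.extendScalars.{u, u, u} ψ).obj M)) ≃ₗ[B]
      (((ModuleCat.restrictScalars.{u} ψ).obj (ModuleCat.of C C)) ⊗ M : ModuleCat.{u} B) :=
  { AddEquiv.refl (TensorProduct B ((ModuleCat.restrictScalars.{u} ψ).obj (ModuleCat.of C C)) M) with
    map_smul' := fun r x => by
      change TensorProduct B ((ModuleCat.restrictScalars.{u} ψ).obj (ModuleCat.of C C)) M at x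
      induction x using TensorProduct.induction_on with
      | zero =>
        exact (smul_zero (A := ((ModuleCat.extendScalars.{u, u, u} ψ).obj M)) (ψ r)).trans
          (smul_zero (A := (((ModuleCat.restrictScalars.{u} ψ).obj (ModuleCat.of C C)) ⊗ M : ModuleCat.{u} B)) r).symm
      | add x y hx hy =>
        refine (smul_add (A := ((ModuleCat.extendScalars.{u, u, u} ψ).obj M)) (ψ r) x y).trans ?_
        refine Eq.trans ?_ (smul_add (A := (((ModuleCat.restrictScalars.{u} ψ).obj (ModuleCat.of C C)) ⊗ M :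
          ModuleCat.{u} B)) r x y).symm
        exact congrArg₂ (· + ·) hx hy
      | tmul c m => rfl }

/-- `- ⊗_B C` followed by restriction of scalars. -/
noncomputable def extRes :
    ModuleCat.extendScalars.{u, u, u} ψ ⋙ ModuleCat.restrictScalars.{u} ψ ≅
      tensorLeft ((ModuleCat.restrictScalars.{u} ψ).obj (ModuleCat.of C C)) :=
  NatIso.ofComponents (fun M => (extResEquiv ψ M).toModuleIso) (fun {M N} f => by
    ext1
    apply LinearMap.ext
    intro x
    change TensorProduct B ((ModuleCat.restrictScalars.{u} ψ).obj (ModuleCat.of C C)) M at x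
    induction x using TensorProduct.induction_on with
    | zero => exact (map_zero _).trans (map_zero _).symm
    | add x y hx hy => exact (map_add _ x y).trans ((congrArg₂ (· + ·) hx hy).trans (map_add _ x y).symm)
    | tmul c m => rfl)

/-- `(C|_B) ⊗^L_B L ≅ (L ⊗^L_B C)|_B`. -/
theorem nonempty_lten_self [DRing.HasLBaseChange ψ] (L : DRing.Cx B) [DRing.HasLTensorCx B L] :
    Nonempty ((DRing.LTensorCx B L).obj ((DRing.restrictD ψ).obj (Dual.inD C C)) ≅
      (DRing.restrictD ψ).obj ((DRing.LBaseChange ψ).obj (Q.obj L))) := by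
  obtain ⟨P, p, h1, h2, -, -⟩ := KProj.exists_kprojective L
  have hP := LTen.hasLTensorCx P
  have eL : Q.obj P ≅ Q.obj L := asIso (Q.map p)
  obtain ⟨e1⟩ := LTen.ltenCongr eL
  let T : ModuleCat.{u} B := (ModuleCat.restrictScalars.{u} ψ).obj (ModuleCat.of C C)
  have e2 : (DRing.restrictD ψ).obj (Dual.inD C C) ≅
      Q.obj ((HomologicalComplex.single _ (ComplexShape.up ℤ) 0).obj T) :=
    (ModuleCat.restrictScalars.{u} ψ).mapDerivedCategoryFactors.app _ ≪≫
      Q.mapIso ((HomologicalComplex.singleMapHomologicalComplex (ModuleCat.restrictScalars.{u} ψ)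
        (ComplexShape.up ℤ) 0).app (ModuleCat.of C C))
  have e3 : (DRing.LTensorCx B P).obj (Q.obj ((HomologicalComplex.single _ (ComplexShape.up ℤ) 0).obj T)) ≅
      Q.obj (MonoidalCategory.tensorObj ((HomologicalComplex.single _ (ComplexShape.up ℤ) 0).obj T : DRing.Cx B) P) :=
    LTen.ltenIso' P _
  have e4 : ((tensorLeft T).mapHomologicalComplex (ComplexShape.up ℤ)).obj P ≅
      MonoidalCategory.tensorObj ((HomologicalComplex.single _ (ComplexShape.up ℤ) 0).obj T : DRing.Cx B) P :=
    Dcoh.TensSingle.singleLeftIsoApp (TR B) T P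
  have e5 : (resCx ψ).obj ((extCx ψ).obj P) ≅ ((tensorLeft T).mapHomologicalComplex (ComplexShape.up ℤ)).obj P :=
    (NatIso.mapHomologicalComplex (extRes ψ) (ComplexShape.up ℤ)).app P
  have e6 : (DRing.restrictD ψ).obj ((DRing.LBaseChange ψ).obj (Q.obj P)) ≅
      Q.obj ((resCx ψ).obj ((extCx ψ).obj P)) :=
    (DRing.restrictD ψ).mapIso (RingK.lbcKflIso ψ (RingK.kfl_of_isKProjective P)) ≪≫
      (ModuleCat.restrictScalars.{u} ψ).mapDerivedCategoryFactors.app _
  exact ⟨(e1.symm.app _) ≪≫ (DRing.LTensorCx B P).mapIso e2 ≪≫ e3 ≪≫ Q.mapIso (e5 ≪≫ e4).symm ≪≫ e6.symm ≪≫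
    (DRing.restrictD ψ).mapIso ((DRing.LBaseChange ψ).mapIso eL)⟩

end K238.RingSelf
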