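import Groth.Agent.KSix.K238.StalkPull
import Groth.Agent.LoccohB.DBase

/-!
# Boundedness of objects of `D(O_X)` and stalks

* `isZero_HD_iff`, `isGE_iff_stalk`, `isLE_iff_stalk`, `isZero_iff_stalkD`.
-/

set_option autoImplicit false
universe u
open CategoryTheory CategoryTheory.Limits AlgebraicGeometry
attribute [local instance] HasDerivedCategory.standard

namespace K238.StalkAmp

open Groth.Agent Groth.Agent.Dcoh.Stalk K238.StalkD DerivedCategory

variable {X : Scheme.{u}}

/-- The cohomology of the stalk is the stalk of the cohomology. -/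
noncomputable def stalkDHomology (x : X) (K : DCoh.D X) (i : ℤ) :
    (homologyFunctor (ModuleCat.{u} (X.presheaf.stalk x)) i).obj ((stalkD x).obj K) ≅
      (stalkF x).obj ((homologyFunctor X.Modules i).obj K) :=
  (LoccohB.DBase.mapDerivedCategoryHomologyIso (stalkF x) i).app K

theorem isZero_of_stalkF (M : X.Modules) (h : ∀ x : X, IsZero ((stalkF x).obj M)) : IsZero M := by
  rw [PerfA.Restrict.isZero_iff_stalk]
  intro x
  have h1 : Subsingleton (M.presheaf.stalk x) := ModuleCat.subsingleton_of_isZero (h x)
  exact @AddCommGrpCat.isZero_of_subsingleton ((PerfA.Restrict.stalkAb x).obj M) h1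

theorem isZero_homology_iff (K : DCoh.D X) (i : ℤ) :
    IsZero ((homologyFunctor X.Modules i).obj K) ↔
      ∀ x : X, IsZero ((homologyFunctor (ModuleCat.{u} (X.presheaf.stalk x)) i).obj ((stalkD x).obj K)) := by
  constructor
  · intro h x
    exact (stalkDHomology x K i).isZero_iff.2 ((stalkF x).map_isZero h)
  · intro h
    exact isZero_of_stalkF _ fun x => (stalkDHomology x K i).isZero_iff.1 (h x)

theorem isGE_iff_stalkD (K : DCoh.D X) (a : ℤ) :
    K.IsGE a ↔ ∀ x : X, ((stalkD x).obj K).IsGE a := by
  simp only [DerivedCategory.isGE_iff, isZero_homology_iff]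
  exact ⟨fun h x i hi => h i hi x, fun h i hi x => h x i hi⟩

theorem isLE_iff_stalkD (K : DCoh.D X) (a : ℤ) :
    K.IsLE a ↔ ∀ x : X, ((stalkD x).obj K).IsLE a := by
  simp only [DerivedCategory.isLE_iff, isZero_homology_iff]
  exact ⟨fun h x i hi => h i hi x, fun h i hi x => h x i hi⟩

end K238.StalkAmp
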