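import Groth.Agent.KSix.K238.StalkD
import Groth.Agent.LoccohB.LBC2
import Groth.Agent.LoccohB.BCMap
import Groth.Agent.LoccohB.BCFlat
import Groth.Agent.LoccohB.FlatLBC

/-!
# Modules as complexes: restriction of scalars, tor amplitude, flat base change

* `inDSelf : (B[0])|_A ≅ B[0]`;
* `torAmp_inD`, `torAmp_self_of_flat`;
* `isIso_lbcQCounit_of_flatMap`, `isIso_bcm_of_flat` : derived Beck–Chevalley for a flat pushout square.
-/

set_option autoImplicit false
universe u
open CategoryTheory CategoryTheory.Limits TensorProduct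
attribute [local instance] HasDerivedCategory.standard

namespace K238.RingInD

open DerivedCategory Groth.Agent Groth.Agent.LoccohB Groth.Agent.LoccohB.LBC Groth.Agent.LoccohB.BCUnit K238.StalkD

section Self

variable {A B : Type u} [CommRing A] [CommRing B]

/-- `B` as an `A`-module (modules). -/
noncomputable def selfEquiv [Algebra A B] :
    ((ModuleCat.restrictScalars.{u} (algebraMap A B)).obj (ModuleCat.of B B) : ModuleCat.{u} A) ≃ₗ[A]
      (ModuleCat.of A B : ModuleCat.{u} A) :=
  { AddEquiv.refl B with
    map_smul' := fun r x => by exact (Algebra.smul_def (R := A) (A := B) r x).symm }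

/-- `B` as an `A`-module. -/
noncomputable def inDSelf [Algebra A B] :
    (DRing.restrictD (algebraMap A B)).obj (Dual.inD B B) ≅ Dual.inD A B :=
  ((ModuleCat.restrictScalars.{u} (algebraMap A B)).mapDerivedCategorySingleFunctor 0).app (ModuleCat.of B B) ≪≫
    (singleFunctor (ModuleCat.{u} A) 0).mapIso (selfEquiv (A := A) (B := B)).toModuleIso

end Self

theorem isIso_lbcQCounit_of_flatMap {A B : Type u} [CommRing A] [CommRing B] (φ : A →+* B)
    [DRing.HasLBaseChange φ] (hφ : φ.Flat) (K : DRing.Cx A) : IsIso ((lbcQCounit φ).app K) := by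
  obtain ⟨P, p, h1, h2, -, -⟩ := KProj.exists_kprojective K
  have := ModuleCat.preservesFiniteLimits_extendScalars_of_flat hφ
  exact BCFlat.isIso_lbcQCounit_of_res φ p inferInstance

/-- Flat modules have tor amplitude in `[0, 0]`. -/
theorem torAmp_inD {A : Type u} [CommRing A] (M : Type u) [AddCommGroup M] [Module A M] [Module.Flat A M] :
    DRing.HasTorAmplitudeIn A 0 0 (Dual.inD A M) := by
  refine ⟨(HomologicalComplex.single (ModuleCat.{u} A) (ComplexShape.up ℤ) 0).obj (ModuleCat.of A M), ?_, ?_, ⟨?_⟩⟩
  · intro i hi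
    exact HomologicalComplex.isZero_single_obj_X _ _ _ _ (by omega)
  · intro i
    by_cases h : i = 0
    · subst h
      exact Module.Flat.of_linearEquiv
        (HomologicalComplex.singleObjXSelf (ComplexShape.up ℤ) 0 (ModuleCat.of A M)).toLinearEquiv
    · have := ModuleCat.subsingleton_of_isZero
        (HomologicalComplex.isZero_single_obj_X (ComplexShape.up ℤ) 0 (ModuleCat.of A M) i h)
      infer_instance
  · exact ((DerivedCategory.singleFunctorIsoCompQ (ModuleCat.{u} A) 0).app (ModuleCat.of A M)).symm

theorem torAmp_self_of_flat {A B : Type u} [CommRing A] [CommRing B] (φ : A →+* B) (hφ : φ.Flat) :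
    DRing.HasTorAmplitudeIn A 0 0 ((DRing.restrictD φ).obj (Dual.inD B B)) := by
  let _ := φ.toAlgebra
  have : Module.Flat A B := hφ
  exact torAmp_of_iso (inDSelf (A := A) (B := B)).symm (torAmp_inD B)

section Square

variable (C C' B B' : Type u) [CommRing C] [CommRing C'] [CommRing B] [CommRing B']
  [Algebra C C'] [Algebra C B] [Algebra C' B'] [Algebra B B'] [Algebra C B']
  [IsScalarTower C C' B'] [IsScalarTower C B B']

theorem isIso_bcm_of_flat [Algebra.IsPushout C C' B B'] (h1 : (algebraMap C C').Flat)
    (h2 : (algebraMap B B').Flat)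
    [DRing.HasLBaseChange (algebraMap C C')] [DRing.HasLBaseChange (algebraMap B B')] :
    IsIso (BCMap.bcm C C' B B') := by
  have : ∀ K, IsIso ((BCMap.bcm C C' B B').app K) := fun K =>
    BCMap.isIso_app_of_iso (BCMap.bcm C C' B B') (Q.objObjPreimageIso K)
      (BCMap.isIso_bcm_Q C C' B B' _ (isIso_lbcQCounit_of_flatMap _ h2 _) (isIso_lbcQCounit_of_flatMap _ h1 _))
  exact NatIso.isIso_of_isIso_app _

end Square

end K238.RingInD
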