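import Groth.Agent.S6947
import Groth.Agent.S6953
import Groth.Agent.KSix.K238.RingSelf
import Groth.Agent.LoccohB.LBC2
import Groth.Agent.KSix.K238.RingInD

/-!
# Interface to the ring-level results on tor amplitude (in terms of ring maps)
-/

set_option autoImplicit false
universe u
open CategoryTheory CategoryTheory.Limits MonoidalCategory
attribute [local instance] HasDerivedCategory.standard

namespace K238.RingIface

open DerivedCategory Groth.Agent Groth.Agent.LoccohB Groth.Agent.LoccohB.LBC K238.StalkD K238.RingInD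

variable {A B C : Type u} [CommRing A] [CommRing B] [CommRing C]

theorem torAmp_restrict (φ : A →+* B) (d : ℕ)
    (hB : DRing.HasTorAmplitudeIn A (-(d : ℤ)) 0 ((DRing.restrictD φ).obj (Dual.inD B B)))
    (K : Dual.D B) {a b : ℤ} (hK : DRing.HasTorAmplitudeIn B a b K) :
    DRing.HasTorAmplitudeIn A (a - d) b ((DRing.restrictD φ).obj K) := by
  let _ := φ.toAlgebra
  exact Groth.Agent.S6947.result (A := A) (B := B) d (torAmp_of_iso inDSelf hB) K a b hK

/-- `M ∈ D(B)` with tor amplitude in `[c, d]` over `A`, `C` with tor amplitude in `[-m, 0]` over `B`: `M ⊗^L_B C` has tor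
amplitude in `[c - m, d]` over `A`. -/
theorem torAmp_lbc_restrict (φ : A →+* B) (ψ : B →+* C) [DRing.HasLBaseChange ψ] (m : ℕ)
    (hC : DRing.HasTorAmplitudeIn B (-(m : ℤ)) 0 ((DRing.restrictD ψ).obj (Dual.inD C C)))
    (M : Dual.D B) {c d : ℤ} (hM : DRing.HasTorAmplitudeIn A c d ((DRing.restrictD φ).obj M)) :
    DRing.HasTorAmplitudeIn A (c - m) d
      ((DRing.restrictD φ).obj ((DRing.restrictD ψ).obj ((DRing.LBaseChange ψ).obj M))) := by
  let _ := φ.toAlgebra
  let L := Q.objPreimage M
  have eL : Q.obj L ≅ M := Q.objObjPreimageIso M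
  have : DRing.HasLTensorCx B L := LTen.hasLTensorCx L
  obtain ⟨e⟩ := RingSelf.nonempty_lten_self ψ L
  have h1 : DRing.HasTorAmplitudeIn A c d (DRing.toD ((DRing.restrictCx (algebraMap A B)).obj L)) :=
    torAmp_of_iso ((DRing.restrictD φ).mapIso eL.symm ≪≫
      (ModuleCat.restrictScalars.{u} φ).mapDerivedCategoryFactors.app L) hM
  have h2 := Groth.Agent.S6953.result (A := A) (B := B) ((DRing.restrictD ψ).obj (Dual.inD C C)) (-(m : ℤ)) 0 c d
    hC L h1
  have h3 := torAmp_of_iso ((DRing.restrictD φ).mapIso (e ≪≫ (DRing.restrictD ψ).mapIso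
    ((DRing.LBaseChange ψ).mapIso eL))) h2
  exact torAmp_mono (by omega) (by omega) h3

end K238.RingIface
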