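import Groth.Agent.KSix.K238.StalkPull
import Groth.Agent.KSix.K238.RingIface
import Groth.Agent.Fdesc.StructMod

/-!
# Stalkwise tor amplitude: composition and derived pullback

* `hasTorAmplitude_comp` (the reference, composition);
* `hasTorAmplitudeD_lpull` : `Lf^*` of a complex with tor amplitude relative to `g`, `f` of finite tor dimension.
-/

set_option autoImplicit false
universe u
open CategoryTheory CategoryTheory.Limits AlgebraicGeometry
attribute [local instance] HasDerivedCategory.standard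

namespace K238.Amp

open Groth.Agent Groth.Agent.Dcoh.Stalk K238.StalkD DerivedCategory Groth.Agent.LoccohB.LBC

variable {X Y Z : Scheme.{u}}

/-- The stalk of `O_X` in the derived category. -/
noncomputable def stalkUnit (x : X) : (stalkD x).obj (DCoh.toD X (DerSch.unitCx X)) ≅
    Dual.inD (X.presheaf.stalk x) (X.presheaf.stalk x) :=
  (stalkF x).mapDerivedCategoryFactors.app _ ≪≫
    Q.mapIso ((HomologicalComplex.singleMapHomologicalComplex (stalkF x) (ComplexShape.up ℤ) 0).app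
      (Coh.structureModule X)) ≪≫
    (DerivedCategory.singleFunctorIsoCompQ (ModuleCat.{u} (X.presheaf.stalk x)) 0).symm.app _ ≪≫
    (singleFunctor (ModuleCat.{u} (X.presheaf.stalk x)) 0).mapIso
      (Fdesc.StructMod.stalkEquiv x).symm.toModuleIso

/-- Tor dimension of a morphism at a point. -/
theorem torAmp_self_of {f : X ⟶ Y} {a b : ℤ} {x : X}
    (h : DerSch.HasTorAmplitudeAt f a b (DerSch.unitCx X) x) :
    DRing.HasTorAmplitudeIn (Y.presheaf.stalk (f.base x)) a b
      ((DRing.restrictD (f.stalkMap x).hom).obj (Dual.inD (X.presheaf.stalk x) (X.presheaf.stalk x))) :=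
  torAmp_of_iso ((DRing.restrictD (f.stalkMap x).hom).mapIso (stalkUnit x)) ((hasTorAmplitudeAt_iff f a b _ x).1 h)

theorem hasTorAmplitudeAt_unit_iff (f : X ⟶ Y) (a b : ℤ) (x : X) :
    DerSch.HasTorAmplitudeAt f a b (DerSch.unitCx X) x ↔
    DRing.HasTorAmplitudeIn (Y.presheaf.stalk (f.base x)) a b
      ((DRing.restrictD (f.stalkMap x).hom).obj (Dual.inD (X.presheaf.stalk x) (X.presheaf.stalk x))) :=
  ⟨torAmp_self_of, fun h => (hasTorAmplitudeAt_iff f a b _ x).2
    (torAmp_of_iso ((DRing.restrictD (f.stalkMap x).hom).mapIso (stalkUnit x).symm) h)⟩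

/-- `stalkOverD` of a composite. -/
noncomputable def stalkOverComp (f : X ⟶ Y) (g : Y ⟶ Z) (x : X) (K : DCoh.D X) :
    (DRing.restrictD (g.stalkMap (f.base x)).hom).obj ((stalkOverD f x).obj K) ≅
      (stalkOverD (f ≫ g) x).obj K :=
  (restrictDComp (g.stalkMap (f.base x)).hom (f.stalkMap x).hom ((f ≫ g).stalkMap x).hom (by
    rw [Scheme.Hom.stalkMap_comp]
    rfl)).app ((stalkD x).obj K)

/-- Composition, at a point. -/
theorem torAmp_comp (f : X ⟶ Y) (g : Y ⟶ Z) (n : ℕ) (x : X)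
    (hg : DerSch.HasTorAmplitudeAt g (-(n : ℤ)) 0 (DerSch.unitCx Y) (f.base x)) (K : DCoh.D X) {a b : ℤ}
    (hK : DRing.HasTorAmplitudeIn (Y.presheaf.stalk (f.base x)) a b ((stalkOverD f x).obj K)) :
    DRing.HasTorAmplitudeIn (Z.presheaf.stalk ((f ≫ g).base x)) (a - n) b ((stalkOverD (f ≫ g) x).obj K) :=
  torAmp_of_iso (stalkOverComp f g x K)
    (RingIface.torAmp_restrict (g.stalkMap (f.base x)).hom n (torAmp_self_of hg) _ hK)

theorem hasTorAmplitude_comp (f : X ⟶ Y) (g : Y ⟶ Z) (n : ℕ) (hg : DerSch.HasTorDimLE g n)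
    (F : CochainComplex X.Modules ℤ) (a b : ℤ) (hF : DerSch.HasTorAmplitude f a b F) :
    DerSch.HasTorAmplitude (f ≫ g) (a - n) b F := by
  rw [hasTorAmplitude_iff] at hF ⊢
  exact fun x => torAmp_comp f g n x (hg _) _ (hF x)

/-- Derived pullback, at a point. -/
theorem torAmp_lpull (f : X ⟶ Y) (g : Y ⟶ Z) (m : ℕ) (x : X) [DCoh.HasLpull f]
    (hf : DerSch.HasTorAmplitudeAt f (-(m : ℤ)) 0 (DerSch.unitCx X) x) (K : DCoh.D Y) {c d : ℤ}
    (hK : DRing.HasTorAmplitudeIn (Z.presheaf.stalk (g.base (f.base x))) c d ((stalkOverD g (f.base x)).obj K)) :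
    DRing.HasTorAmplitudeIn (Z.presheaf.stalk ((f ≫ g).base x)) (c - m) d
      ((stalkOverD (f ≫ g) x).obj ((DCoh.Lpull f).obj K)) := by
  have := hasLBaseChange (f.stalkMap x).hom
  obtain ⟨e⟩ := StalkPull.nonempty_stalkD_lpull f x K
  have h1 := RingIface.torAmp_lbc_restrict (g.stalkMap (f.base x)).hom (f.stalkMap x).hom m
    (torAmp_self_of hf) ((stalkD (f.base x)).obj K) hK
  exact torAmp_of_iso ((DRing.restrictD (g.stalkMap (f.base x)).hom).mapIso
    ((DRing.restrictD (f.stalkMap x).hom).mapIso e.symm) ≪≫ stalkOverComp f g x _) h1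

theorem hasTorAmplitudeD_lpull (f : X ⟶ Y) (g : Y ⟶ Z) (m : ℕ) [DCoh.HasLpull f] (hf : DerSch.HasTorDimLE f m)
    (K : DCoh.D Y) (c d : ℤ) (hK : DerSch.HasTorAmplitudeD g c d K) :
    DerSch.HasTorAmplitudeD (f ≫ g) (c - m) d ((DCoh.Lpull f).obj K) := by
  rw [hasTorAmplitudeD_iff] at hK ⊢
  exact fun x => torAmp_lpull f g m x (hf x) K (hK _)

end K238.Amp
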