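import Groth.Agent.KSix.K238.RingIface
import Groth.Agent.LoccohB.BCMap
import Groth.Agent.DRing.K227.FlatBC

/-!
# Flat base change of tor amplitude over a base

* `torAmp_cube` : `R → A`, `R → R'` flat, `A ⊗_R R' → A'` flat, `K ∈ D(A)` with amplitude in `[a, b]` over `R`:
  `K ⊗^L_A A'` has amplitude in `[a, b]` over `R'`.
-/

set_option autoImplicit false
universe u
open CategoryTheory CategoryTheory.Limits TensorProduct
attribute [local instance] HasDerivedCategory.standard

namespace K238.RingBC

open DerivedCategory Groth.Agent Groth.Agent.LoccohB Groth.Agent.LoccohB.LBC Groth.Agent.LoccohB.BCUnit K238.StalkD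
  K238.RingInD

section Cube

variable (R A R' A' : Type u) [CommRing R] [CommRing A] [CommRing R'] [CommRing A']
  [Algebra R A] [Algebra R R'] [Algebra A A'] [Algebra R' A'] [Algebra R A']
  [IsScalarTower R A A'] [IsScalarTower R R' A']

theorem torAmp_cube [Module.Flat R R']
    (h : (Algebra.TensorProduct.productMap (IsScalarTower.toAlgHom R A A')
      (IsScalarTower.toAlgHom R R' A')).toRingHom.Flat)
    [DRing.HasLBaseChange (algebraMap A A')] (K : Dual.D A) {a b : ℤ}
    (hK : DRing.HasTorAmplitudeIn R a b ((DRing.restrictD (algebraMap R A)).obj K)) :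
    DRing.HasTorAmplitudeIn R' a b ((DRing.restrictD (algebraMap R' A')).obj
      ((DRing.LBaseChange (algebraMap A A')).obj K)) := by
  let _ : Algebra R' (A ⊗[R] R') := Algebra.TensorProduct.rightAlgebra
  have : Algebra.IsPushout R R' A (A ⊗[R] R') := TensorProduct.isPushout'
  have i1 := hasLBaseChange (algebraMap A (A ⊗[R] R'))
  have i2 := hasLBaseChange (algebraMap R R')
  have hA : (algebraMap A (A ⊗[R] R')).Flat := by
    rw [RingHom.flat_algebraMap_iff]
    infer_instance
  have hR : (algebraMap R R').Flat := by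
    rw [RingHom.flat_algebraMap_iff]
    infer_instance
  have i3 := isIso_bcm_of_flat R R' A (A ⊗[R] R') hR hA
  let ψ : (A ⊗[R] R') →+* A' := (Algebra.TensorProduct.productMap (IsScalarTower.toAlgHom R A A')
      (IsScalarTower.toAlgHom R R' A')).toRingHom
  have i4 := hasLBaseChange ψ
  let M : Dual.D (A ⊗[R] R') := (DRing.LBaseChange (algebraMap A (A ⊗[R] R'))).obj K
  have hM : DRing.HasTorAmplitudeIn R' a b ((DRing.restrictD (algebraMap R' (A ⊗[R] R'))).obj M) :=
    torAmp_of_iso ((asIso (BCMap.bcm R R' A (A ⊗[R] R'))).app K)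
      (K227.FlatBC.torAmp_lbc (algebraMap R R') _ a b hK)
  have hψ : DRing.HasTorAmplitudeIn (A ⊗[R] R') (-((0 : ℕ) : ℤ)) 0 ((DRing.restrictD ψ).obj (Dual.inD A' A')) :=
    torAmp_mono (by simp) le_rfl (torAmp_self_of_flat ψ h)
  have h1 := RingIface.torAmp_lbc_restrict (algebraMap R' (A ⊗[R] R')) ψ 0 hψ M hM
  have c1 : algebraMap A A' = ψ.comp (algebraMap A (A ⊗[R] R')) := by
    ext x
    simp [ψ]
  have c2 : algebraMap R' A' = ψ.comp (algebraMap R' (A ⊗[R] R')) := by
    ext x
    change algebraMap R' A' x = ψ (1 ⊗ₜ x)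
    simp [ψ]
  refine torAmp_mono (by simp) le_rfl (torAmp_of_iso ?_ h1)
  exact (restrictDComp (algebraMap R' (A ⊗[R] R')) ψ (algebraMap R' A') c2).app _ ≪≫
    (DRing.restrictD (algebraMap R' A')).mapIso
      ((lbcComp (algebraMap A (A ⊗[R] R')) ψ (algebraMap A A') c1).app K)

end Cube

end K238.RingBC
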