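import Groth.Agent.KSix.K238.StalkPull
import Groth.Agent.KSix.K238.RingBC
import Groth.Agent.Fdesc.FlatBC

/-!
# Stalkwise tor amplitude and flat base change
-/

set_option autoImplicit false
set_option linter.style.haveILetI false
universe u
open CategoryTheory CategoryTheory.Limits AlgebraicGeometry
attribute [local instance] HasDerivedCategory.standard

namespace K238.AmpBC

open Groth.Agent Groth.Agent.Dcoh.Stalk K238.StalkD DerivedCategory Groth.Agent.LoccohB.LBC
  Groth.Agent.Fdesc.Skyscraper Groth.Agent.Fdesc.PullbackStalk Groth.Agent.Fdesc.StalkExt Groth.Agent.Fdesc.FlatBC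

variable {P X Y' Y : Scheme.{u}} {p : P ⟶ X} {q : P ⟶ Y'} {f : X ⟶ Y} {g : Y' ⟶ Y}

theorem hasTorAmplitudeD_flatBC (H : IsPullback p q f g) [Flat g] [DCoh.HasLpull p] (K : DCoh.D X) {a b : ℤ}
    (hK : DerSch.HasTorAmplitudeD f a b K) : DerSch.HasTorAmplitudeD q a b ((DCoh.Lpull p).obj K) := by
  rw [hasTorAmplitudeD_iff] at hK ⊢
  intro z
  letI := stalkAlg f (p.base z)
  letI : Algebra (Y.presheaf.stalk (f.base (p.base z))) (Y'.presheaf.stalk (q.base z)) :=
    (crossMap H.w z).hom.toAlgebra
  letI := stalkAlg p z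
  letI := stalkAlg q z
  letI : Algebra (Y.presheaf.stalk (f.base (p.base z))) (P.presheaf.stalk z) :=
    (f.stalkMap (p.base z) ≫ p.stalkMap z).hom.toAlgebra
  haveI : IsScalarTower (Y.presheaf.stalk (f.base (p.base z))) (X.presheaf.stalk (p.base z))
    (P.presheaf.stalk z) := IsScalarTower.of_algebraMap_eq fun _ => rfl
  haveI : IsScalarTower (Y.presheaf.stalk (f.base (p.base z))) (Y'.presheaf.stalk (q.base z))
    (P.presheaf.stalk z) := IsScalarTower.of_algebraMap_eq fun r =>
      (ConcreteCategory.congr_hom (crossMap_comp H.w z) r).symm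
  haveI : Module.Flat (Y.presheaf.stalk (f.base (p.base z))) (Y'.presheaf.stalk (q.base z)) :=
    flat_crossMap H.w z
  haveI := hasLBaseChange (p.stalkMap z).hom
  obtain ⟨e⟩ := StalkPull.nonempty_stalkD_lpull p z K
  haveI : DRing.HasLBaseChange (algebraMap (X.presheaf.stalk (p.base z)) (P.presheaf.stalk z)) :=
    hasLBaseChange (p.stalkMap z).hom
  have h := RingBC.torAmp_cube (Y.presheaf.stalk (f.base (p.base z))) (X.presheaf.stalk (p.base z))
    (Y'.presheaf.stalk (q.base z)) (P.presheaf.stalk z) (flat_productMap_stalk H z) ((stalkD (p.base z)).obj K)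
    (hK (p.base z))
  exact torAmp_of_iso ((DRing.restrictD (q.stalkMap z).hom).mapIso e.symm) h

end K238.AmpBC
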