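import Groth.Agent.PerfC.RelPerf
import Groth.Agent.PerfC.PullKFlat
import Groth.Agent.PerfC.LpullPC
import Groth.Agent.PerfC.RelFlat
import Groth.Agent.Models2.TorDimRel
import Groth.Agent.Dcoh.DerPull2
import Groth.Agent.Dcoh.PerfFlat

/-!
# Perfect complexes and fibres

`f : X ⟶ S` flat and locally of finite presentation: `E` is perfect iff it is pseudo-coherent, locally of finite tor
dimension over `S` and its derived pullbacks to the fibres of `f` are perfect.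
-/

set_option autoImplicit false
universe u
open CategoryTheory CategoryTheory.Limits AlgebraicGeometry
attribute [local instance] HasDerivedCategory.standard

namespace K238.FibrePerf

open Groth.Agent

variable {X S : Scheme.{u}}

theorem exists_isGE_of_isPerfect {E : DCoh.D X} (hE : DCoh.IsPerfect E) (x : X) :
    ∃ (V : X.Opens) (a : ℤ), x ∈ V ∧ ((DCoh.restrictD V.ι).obj E).IsGE a := by
  have h := ((Dcoh.PerfFlat.isPerfect_iff E).mp hE).2
  rw [← Models2.TorDimRel.locHasFiniteTorDim_iff_rel, PerfC.RelAmp.locHasFiniteRelTorDim_iff] at h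
  obtain ⟨V, a, b, hx, h1⟩ := h x
  exact ⟨V, a, hx, PerfC.RelAmp.isGE_of_hasRelFlatAmplitudeIn h1⟩

theorem locHasFiniteRelTorDim_of_loc (f : X ⟶ S) [Flat f] {E : DCoh.D X} (h : DCoh.LocHasFiniteTorDim E) :
    DCoh.LocHasFiniteRelTorDim f E := by
  intro x
  obtain ⟨V, a, b, hx, h1⟩ := h x
  refine ⟨V, a, b, hx, fun F' hF' => ?_⟩
  obtain ⟨P, h2, h3, h4⟩ := h1 F' hF'
  exact ⟨P, h2, fun i => PerfC.RelFlat.isFlatOver_of_isFlat (V.ι ≫ f) (h3 i), h4⟩

/-- The morphism from the fibre of the identity over `x` to the fibre of `f` over `f x`. -/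
theorem exists_fiberι_fac (f : X ⟶ S) (x : X) :
    ∃ g : (𝟙 X : X ⟶ X).fiber x ⟶ f.fiber (f x), g ≫ f.fiberι (f x) = (𝟙 X : X ⟶ X).fiberι x := by
  have w : (𝟙 X : X ⟶ X).fiberι x ≫ f =
      ((𝟙 X : X ⟶ X).fiberToSpecResidueField x ≫ Spec.map (f.residueFieldMap x)) ≫
        S.fromSpecResidueField (f x) := by
    rw [Category.assoc, Scheme.Hom.SpecMap_residueFieldMap_fromSpecResidueField, ← Category.assoc,
      ← Scheme.Hom.fiber_fac, Category.comp_id]
  exact ⟨pullback.lift _ _ w, pullback.lift_fst _ _ _⟩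

theorem isPerfect_of_fibres (f : X ⟶ S) [Flat f] [LocallyOfFinitePresentation f]
    [∀ s : S, DCoh.HasLpull (f.fiberι s)]
    (E : DCoh.D X) (hpc : ∀ m : ℤ, DCoh.IsPseudoCoherentD m E) (ht : DCoh.LocHasFiniteRelTorDim f E)
    (hs : ∀ s : S, DCoh.IsPerfect ((DCoh.Lpull (f.fiberι s)).obj E)) : DCoh.IsPerfect E := by
  refine (Dcoh.PerfFlat.isPerfect_iff E).mpr ⟨hpc, ?_⟩
  rw [← Models2.TorDimRel.locHasFiniteTorDim_iff_rel]
  have : ∀ x : X, DCoh.HasLpull ((𝟙 X : X ⟶ X).fiberι x) := fun x => Dcoh.DerPull.hasLpull _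
  refine (PerfC.RelPerf.relPerf_iff (𝟙 X) PerfC.PullKFlat.exists_pullData E hpc).mpr ⟨?_, ?_⟩
  · intro x
    rw [PerfC.RelAmp.locHasFiniteRelTorDim_iff] at ht
    obtain ⟨V, a, b, hx, h1⟩ := ht x
    exact ⟨V, a, hx, PerfC.RelAmp.isGE_of_hasRelFlatAmplitudeIn h1⟩
  · intro x y
    obtain ⟨g, hg⟩ := exists_fiberι_fac f x
    have hL : DCoh.HasLpull g := Dcoh.DerPull.hasLpull _
    have hL' : DCoh.HasLpull (g ≫ f.fiberι (f x)) := Dcoh.DerPull.hasLpull _
    have e := (Dcoh.DerPull.lpullCompIso g (f.fiberι (f x))).app E ≪≫ (Dcoh.DerPull.lpullCongr hg).app E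
    obtain ⟨W, a, hy, h1⟩ := exists_isGE_of_isPerfect (PerfC.LpullPC.isPerfect_lpull PerfC.PullKFlat.exists_pullData g (hs (f x))) y
    refine ⟨W, a, hy, ?_⟩
    have h2 : ((DCoh.restrictD W.ι).obj
      ((DCoh.Lpull (f.fiberι (f x)) ⋙ DCoh.Lpull g).obj E)).IsGE a := h1
    exact DerivedCategory.TStructure.t.isGE_of_iso ((DCoh.restrictD W.ι).mapIso e) a

theorem isPerfect_iff (f : X ⟶ S) [Flat f] [LocallyOfFinitePresentation f]
    [∀ s : S, DCoh.HasLpull (f.fiberι s)] (E : DCoh.D X) :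
    DCoh.IsPerfect E ↔
      ((∀ m : ℤ, DCoh.IsPseudoCoherentD m E) ∧ DCoh.LocHasFiniteRelTorDim f E ∧
        ∀ s : S, DCoh.IsPerfect ((DCoh.Lpull (f.fiberι s)).obj E)) := by

  refine ⟨fun h => ?_, fun h => isPerfect_of_fibres f E h.1 h.2.1 h.2.2⟩
  have h1 := (Dcoh.PerfFlat.isPerfect_iff E).mp h
  exact ⟨h1.1, locHasFiniteRelTorDim_of_loc f h1.2, fun s => PerfC.LpullPC.isPerfect_lpull PerfC.PullKFlat.exists_pullData _ h⟩

end K238.FibrePerf
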