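import Groth.Agent.KSix.K238.StalkD
import Groth.Agent.CycB.PushStalk
import Groth.Agent.LoccohB.LBC2
import Groth.Prelude.Def_DTor2
import Groth.Agent.PerfC.RelFlat

/-!
# Stalks of the direct image along an inducing morphism

* `pushStalkMod f hf x : (f_* F)_{f x} ≅ F_x` restricted to `O_{Y, f x}`;
* `pushStalkD` : the same in the derived category, for the termwise direct image;
* `torAmp_of_flat_push` : flat amplitude on `X'` gives tor amplitude relative to `i ≫ f'`, `f'` flat.
-/

set_option autoImplicit false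
universe u
open CategoryTheory CategoryTheory.Limits AlgebraicGeometry
attribute [local instance] HasDerivedCategory.standard

namespace K238.PushClosed

open Groth.Agent Groth.Agent.Dcoh.Stalk K238.StalkD DerivedCategory Groth.Agent.CycB

variable {X Y Z : Scheme.{u}}

/-- `(f_* F)_{f x} → F_x` over `O_{Y, f x}`, for the frozen stalk functor. -/
noncomputable def pushStalkHom (f : X ⟶ Y) (x : X) (F : X.Modules) :
    (DerSch.stalkFunctor Y (f.base x)).obj ((Scheme.Modules.pushforward f).obj F) ⟶ (DerSch.stalkOver f x).obj F :=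
  ModuleCat.ofHom (Y := (DerSch.stalkOver f x).obj F)
    { toFun := fun m => PushStalk.pushStalk f F x m
      map_add' := fun a b => map_add _ a b
      map_smul' := fun r m => (PushStalk.pushStalk f F x).map_smulₛₗ r m }

theorem isIso_pushStalkHom (f : X ⟶ Y) (hf : Topology.IsInducing f) (x : X) (F : X.Modules) :
    IsIso (pushStalkHom f x F) := by
  rw [ConcreteCategory.isIso_iff_bijective]
  exact PushStalk.pushStalk_bijective f hf F x

/-- `(f_* F)_{f x} ≅ F_x` over `O_{Y, f x}`, for the frozen stalk functor. -/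
noncomputable def pushStalkMod (f : X ⟶ Y) (hf : Topology.IsInducing f) (x : X) :
    Scheme.Modules.pushforward f ⋙ DerSch.stalkFunctor Y (f.base x) ≅ DerSch.stalkOver f x :=
  NatIso.ofComponents
    (fun F => @asIso _ _ _ _ (pushStalkHom f x F) (isIso_pushStalkHom f hf x F))
    (fun φ => by
      ext m
      exact PushStalk.pushStalk_natural f φ x m)

/-- The stalk at `f x` of the termwise direct image, in the derived category. -/
noncomputable def pushStalkD (f : X ⟶ Y) (hf : Topology.IsInducing f) (x : X) (F : CochainComplex X.Modules ℤ) :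
    (stalkD (f.base x)).obj
        (DCoh.toD Y (((Scheme.Modules.pushforward f).mapHomologicalComplex (ComplexShape.up ℤ)).obj F)) ≅
      (stalkOverD f x).obj (DCoh.toD X F) :=
  (stalkQ (f.base x) _).symm ≪≫
    Q.mapIso ((NatIso.mapHomologicalComplex (pushStalkMod f hf x) (ComplexShape.up ℤ)).app F) ≪≫ stalkOverQ f x F

/-- `stalkOverD` of a composite. -/
noncomputable def stalkOverComp (f : X ⟶ Y) (g : Y ⟶ Z) (x : X) (K : DCoh.D X) :
    (DRing.restrictD (g.stalkMap (f.base x)).hom).obj ((stalkOverD f x).obj K) ≅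
      (stalkOverD (f ≫ g) x).obj K :=
  (LoccohB.LBC.restrictDComp (g.stalkMap (f.base x)).hom (f.stalkMap x).hom ((f ≫ g).stalkMap x).hom (by
    rw [Scheme.Hom.stalkMap_comp]
    rfl)).app ((stalkD x).obj K)

/-- The stalk at `f x` over `Z` of the termwise direct image along `f` inducing. -/
noncomputable def pushStalkOverD (f : X ⟶ Y) (hf : Topology.IsInducing f) (g : Y ⟶ Z) (x : X)
    (F : CochainComplex X.Modules ℤ) :
    (stalkOverD g (f.base x)).obj
        (DCoh.toD Y (((Scheme.Modules.pushforward f).mapHomologicalComplex (ComplexShape.up ℤ)).obj F)) ≅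
      (stalkOverD (f ≫ g) x).obj (DCoh.toD X F) :=
  (DRing.restrictD (g.stalkMap (f.base x)).hom).mapIso (pushStalkD f hf x F) ≪≫ stalkOverComp f g x _

/-- Stalkwise flat model. -/
theorem hasTorAmplitudeAt_of_flat (g : Y ⟶ Z) {a b : ℤ} {E : CochainComplex Y.Modules ℤ}
    (h1 : DCoh.VanishesOutside E a b) (y : Y) (h2 : ∀ i, FlatMod.IsFlatOverAt g (E.X i) y) :
    DerSch.HasTorAmplitudeAt g a b E y :=
  ⟨(DerSch.stalkCxOver g y).obj E, fun i hi => (DerSch.stalkOver g y).map_isZero (h1 i hi), fun i => h2 i,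
    ⟨Iso.refl _⟩⟩

/-- Flat amplitude on `Y` gives tor amplitude relative to a flat morphism `g : Y ⟶ Z`. -/
theorem hasTorAmplitude_of_hasFlatAmplitudeIn (g : Y ⟶ Z) [Flat g] {a b : ℤ} {G : CochainComplex Y.Modules ℤ}
    (hG : DCoh.HasFlatAmplitudeIn a b (DCoh.toD Y G)) : DerSch.HasTorAmplitude g a b G := by
  obtain ⟨E, h1, h2, ⟨e⟩⟩ := hG
  exact hasTorAmplitude_of_iso e fun y => hasTorAmplitudeAt_of_flat g h1 y fun i =>
    PerfC.RelFlat.isFlatOver_of_isFlat g (h2 i) y

/-- Flat amplitude of the termwise direct image gives tor amplitude relative to the composite. -/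
theorem hasTorAmplitude_of_push (f : X ⟶ Y) (hf : Topology.IsInducing f) (g : Y ⟶ Z) [Flat g] {a b : ℤ}
    {F : CochainComplex X.Modules ℤ}
    (hF : DCoh.HasFlatAmplitudeIn a b
      (DCoh.toD Y (((Scheme.Modules.pushforward f).mapHomologicalComplex (ComplexShape.up ℤ)).obj F))) :
    DerSch.HasTorAmplitude (f ≫ g) a b F := by
  rw [hasTorAmplitude_iff]
  intro x
  have h := hasTorAmplitude_of_hasFlatAmplitudeIn g hF
  rw [hasTorAmplitude_iff] at h
  exact torAmp_of_iso (pushStalkOverD f hf g x F) (h (f.base x))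

end K238.PushClosed
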