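import Groth.Agent.KSix.K238.StalkAmp
import Groth.Agent.KSix.K238.FibrePerf
import Groth.Agent.DRing.K227.FlatBC
import Groth.Agent.DRing.K227.PerfFlat

/-!
# Perfection of a pseudo-coherent complex from finite tor amplitude of its stalks
-/

set_option autoImplicit false
universe u
open CategoryTheory CategoryTheory.Limits AlgebraicGeometry
attribute [local instance] HasDerivedCategory.standard

namespace K238.RegPerf

open Groth.Agent Groth.Agent.Dcoh.Stalk K238.StalkD K238.StalkAmp DerivedCategory Groth.Agent.LoccohB.LBC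

theorem isGE_of_torAmp {A : Type u} [CommRing A] {a b : ℤ} {K : Dual.D A} (h : DRing.HasTorAmplitudeIn A a b K) :
    K.IsGE a := by
  obtain ⟨E, h1, -, ⟨e⟩⟩ := h
  have : CochainComplex.IsStrictlyGE E a := by
    rw [CochainComplex.isStrictlyGE_iff]
    exact fun i hi => h1 i (Or.inl hi)
  have h2 : (Q.obj E).IsGE a := inferInstance
  exact DerivedCategory.TStructure.t.isGE_of_iso e a

variable {X Y : Scheme.{u}}

/-- Lower bound of a derived pullback, all of whose points lie over one point. -/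
theorem isGE_lpull (f : X ⟶ Y) [DCoh.HasLpull f] (s : Y) (hs : ∀ x : X, f x = s) (K : DCoh.D Y)
    (h : ∀ y : Y, DRing.HasFiniteTorDimCx (Y.presheaf.stalk y) ((stalkD y).obj K)) :
    ∃ a : ℤ, ((DCoh.Lpull f).obj K).IsGE a := by
  choose a b hab using h
  refine ⟨a s, ?_⟩
  rw [isGE_iff_stalkD]
  intro x
  have := hasLBaseChange (f.stalkMap x).hom
  obtain ⟨e⟩ := StalkPull.nonempty_stalkD_lpull f x K
  have h1 := torAmp_of_iso e.symm (K227.FlatBC.torAmp_lbc (f.stalkMap x).hom _ _ _ (hab (f x)))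
  have h2 := isGE_of_torAmp h1
  rw [hs x] at h2
  exact h2

theorem isPerfect_of_stalks (E : DCoh.D X) (c : ℤ) [E.IsGE c] (hE : ∀ m : ℤ, DCoh.IsPseudoCoherentD m E)
    (h : ∀ x : X, DRing.HasFiniteTorDimCx (X.presheaf.stalk x) ((stalkD x).obj E)) : DCoh.IsPerfect E := by
  refine (Dcoh.PerfFlat.isPerfect_iff E).mpr ⟨hE, ?_⟩
  rw [← Models2.TorDimRel.locHasFiniteTorDim_iff_rel]
  have : ∀ x : X, DCoh.HasLpull ((𝟙 X : X ⟶ X).fiberι x) := fun x => Dcoh.DerPull.hasLpull _
  refine (PerfC.RelPerf.relPerf_iff (𝟙 X) PerfC.PullKFlat.exists_pullData E hE).mpr ⟨?_, ?_⟩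
  · intro x
    exact ⟨⊤, c, trivial, PerfA.ExactD.isGE_map (Scheme.Modules.restrictFunctor _) E c⟩
  · intro s y
    obtain ⟨a, ha⟩ := isGE_lpull ((𝟙 X : X ⟶ X).fiberι s) s (fun x => by
      have h1 : ((𝟙 X : X ⟶ X).fiberι s) x ∈ Set.range ((𝟙 X : X ⟶ X).fiberι s) := Set.mem_range_self x
      rw [Scheme.Hom.range_fiberι] at h1
      simpa using h1) E h
    exact ⟨⊤, a, trivial, PerfA.ExactD.isGE_map (Scheme.Modules.restrictFunctor _) _ a⟩

end K238.RegPerf
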