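import Groth.Agent.KSix.K238.RegPerf
import Groth.Agent.S5612

set_option autoImplicit false
universe u
open CategoryTheory CategoryTheory.Limits AlgebraicGeometry
attribute [local instance] HasDerivedCategory.standard

namespace K238.RegPerf

open Groth.Agent Groth.Agent.Dcoh.Stalk K238.StalkD K238.StalkAmp DerivedCategory

theorem hasFiniteTorDimCx_stalk {X : Scheme.{u}}
    (hX : ∀ (x : X) (M : Type u) [AddCommGroup M] [Module (X.presheaf.stalk x) M],
      DRing.HasFiniteTorDim (X.presheaf.stalk x) M)
    (E : DCoh.D X) (c d : ℤ) [hc : E.IsGE c] [hd : E.IsLE d] (x : X) :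
    DRing.HasFiniteTorDimCx (X.presheaf.stalk x) ((stalkD x).obj E) := by
  refine (Groth.Agent.S5612.result (hX x) _).1.2 ⟨c, d, fun i hi => ?_⟩
  have h1 := (isGE_iff_stalkD E c).1 hc x
  have h2 := (isLE_iff_stalkD E d).1 hd x
  rcases hi with hi | hi
  · exact ModuleCat.subsingleton_of_isZero (DerivedCategory.isZero_of_isGE _ c i hi)
  · exact ModuleCat.subsingleton_of_isZero (DerivedCategory.isZero_of_isLE _ d i hi)

end K238.RegPerf
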