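import Groth.Agent.DRing.K226.KFlatExt
import Groth.Agent.LoccohB.BCFlat
import Groth.Agent.LoccohB.KProj
import Groth.Agent.LoccohB.LTen

/-!
# Derived base change of K-flat complexes of modules

`nonempty_lbc_iso`: `LBaseChange φ (Q K) ≅ Q (K ⊗ B)` for `K` K-flat.
-/

set_option autoImplicit false
universe u
open CategoryTheory CategoryTheory.Limits MonoidalCategory
open scoped ZeroObject
attribute [local instance] HasDerivedCategory.standard

namespace K238.RingK

open DerivedCategory Groth.Agent Groth.Agent.LoccohB Groth.Agent.LoccohB.LBC Groth.Agent.LoccohB.BCUnit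
  Groth.Agent.Dcoh.KFlatAbs Groth.Agent.PerfB.RingKFlat

variable {A B : Type u} [CommRing A] [CommRing B] (φ : A →+* B)

/-- K-projective complexes of modules are K-flat. -/
theorem kfl_of_isKProjective (P : DRing.Cx A) [P.IsKProjective] : KFl (TR A) P := by
  intro L hL
  have h1 : QuasiIso (0 : (0 : DRing.Cx A) ⟶ L) := by
    rw [quasiIso_iff]
    intro i
    rw [quasiIsoAt_iff_isIso_homologyMap]
    have hz : IsZero ((0 : DRing.Cx A).homology i) := by
      have : IsZero (0 : DRing.Cx A) := isZero_zero _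
      exact (HomologicalComplex.homologyFunctor _ _ i).map_isZero this
    have hz' := (HomologicalComplex.exactAt_iff_isZero_homology _ _).1 (hL i)
    exact ⟨⟨0, hz.eq_of_src _ _, hz'.eq_of_src _ _⟩⟩
  have h2 := LTen.quasiIso_whiskerRight P (0 : (0 : DRing.Cx A) ⟶ L)
  have h3 : IsZero (((TR A).map₂CochainComplex.flip.obj P).obj (0 : DRing.Cx A)) :=
    ((TR A).map₂CochainComplex.flip.obj P).map_isZero (isZero_zero _)
  intro n
  have h5 : (MonoidalCategory.tensorObj (0 : DRing.Cx A) P).ExactAt n :=
    HomologicalComplex.ExactAt.of_isZero ((HomologicalComplex.eval _ _ n).map_isZero h3)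
  exact (exactAt_iff_of_quasiIsoAt ((0 : (0 : DRing.Cx A) ⟶ L) ▷ P) n).1 h5

/-- Base change preserves quasi-isomorphisms between K-flat complexes. -/
theorem quasiIso_ext {K L : DRing.Cx A} (p : K ⟶ L) (hK : KFl (TR A) K) (hL : KFl (TR A) L)
    (hp : QuasiIso p) : QuasiIso ((extCx φ).map p) := by
  rw [PerfC.AcyclicBdd.quasiIso_iff_acyclic_mappingCone] at hp ⊢
  have h1 := K226.KFlat.acyclic_extendScalars φ _ (hK.mappingCone p hL) hp
  intro i
  exact (h1 i).of_iso (CochainComplex.mappingCone.mapHomologicalComplexIso p (ModuleCat.extendScalars.{u, u, u} φ))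

variable [DRing.HasLBaseChange φ]

theorem isIso_lbcQCounit_of_kfl {K : DRing.Cx A} (hK : KFl (TR A) K) : IsIso ((lbcQCounit φ).app K) := by
  obtain ⟨P, p, h1, h2, -, -⟩ := KProj.exists_kprojective K
  exact BCFlat.isIso_lbcQCounit_of_res φ p (quasiIso_ext φ p (kfl_of_isKProjective P) hK h2)

/-- The derived base change of a K-flat complex is the termwise one. -/
noncomputable def lbcKflIso {K : DRing.Cx A} (hK : KFl (TR A) K) :
    (DRing.LBaseChange φ).obj (Q.obj K) ≅ Q.obj ((extCx φ).obj K) :=
  haveI := isIso_lbcQCounit_of_kfl φ hK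
  asIso ((lbcQCounit φ).app K)

end K238.RingK
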