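import Mathlib.CategoryTheory.Linear.Basic
import Mathlib.Algebra.Homology.HomologicalComplex
import Mathlib.Algebra.Homology.Additive
import Mathlib.Algebra.BigOperators.Group.Finset.Basic
import Mathlib.Algebra.Group.Submonoid.BigOperators
import Mathlib.Order.Interval.Finset.Defs
import Mathlib.Data.Int.Interval
import Mathlib.Tactic

/-!
# Spreading out chain maps and complexes, abstractly

`L : C ⥤ D` is semilinear over `σ : R →+* R'`, `S ≤ R`; `LocHom M N`: `Hom(M, N) → Hom(L M, L N)` is a localisation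
at `S`.
* `exists_chain`: chain maps `L P ⟶ L N` come, up to an element of `S`, from chain maps `P ⟶ N`, `P` bounded.
* `exists_complex`: bounded complexes with terms `L (M i)` come from complexes with terms `M i`.
-/

set_option autoImplicit false
open CategoryTheory CategoryTheory.Limits

namespace K238.SpreadAbs

universe v₁ v₂ u₁ u₂

variable {R R' : Type*} [CommRing R] [CommRing R'] (σ : R →+* R') {C : Type u₁} [Category.{v₁} C] [Preadditive C]
  [Linear R C] {D : Type u₂} [Category.{v₂} D] [Preadditive D] [Linear R' D] (L : C ⥤ D) (S : Submonoid R)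

/-- `Hom(M, N) → Hom(L M, L N)` is a localisation at `S`. -/
structure LocHom (M N : C) : Prop where
  surj : ∀ θ : L.obj M ⟶ L.obj N, ∃ s ∈ S, ∃ f : M ⟶ N, L.map f = σ s • θ
  inj : ∀ f : M ⟶ N, L.map f = 0 → ∃ s ∈ S, s • f = 0

/-- Semilinearity of a functor. -/
def SemiLin : Prop := ∀ (r : R) (M N : C) (f : M ⟶ N), L.map (r • f) = σ r • L.map f

variable {σ L S}

theorem LocHom.of_iso {M M' N : C} (h : LocHom σ L S M N) (e : M' ≅ M) : LocHom σ L S M' N where
  surj θ := by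
    obtain ⟨s, hs, f, hf⟩ := h.surj (L.map e.inv ≫ θ)
    refine ⟨s, hs, e.hom ≫ f, ?_⟩
    rw [L.map_comp, hf, Linear.comp_smul, ← Category.assoc, ← L.map_comp, e.hom_inv_id,
      CategoryTheory.Functor.map_id, Category.id_comp]
  inj f hf := by
    obtain ⟨s, hs, h1⟩ := h.inj (e.inv ≫ f) (by rw [L.map_comp, hf, comp_zero])
    refine ⟨s, hs, ?_⟩
    rw [← Linear.comp_smul] at h1
    exact (cancel_epi e.inv).1 (by rw [h1, comp_zero])

theorem exists_family (hL : SemiLin σ L) (I : Finset ℤ) {M N : ℤ → C} (h : ∀ i, LocHom σ L S (M i) (N i))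
    (h0 : ∀ i, i ∉ I → IsZero (L.obj (M i))) (θ : ∀ i, L.obj (M i) ⟶ L.obj (N i)) :
    ∃ s ∈ S, ∃ f : ∀ i, M i ⟶ N i, ∀ i, L.map (f i) = σ s • θ i := by
  choose s hs f hf using fun i => (h i).surj (θ i)
  refine ⟨∏ i ∈ I, s i, S.prod_mem fun i _ => hs i, fun i => (∏ j ∈ I.erase i, s j) • f i, fun i => ?_⟩
  by_cases hi : i ∈ I
  · rw [hL, hf, smul_smul, ← map_mul, mul_comm, Finset.mul_prod_erase _ _ hi]
  · exact (h0 i hi).eq_of_src _ _

theorem exists_smul_zero (I : Finset ℤ) {M N : ℤ → C} (h : ∀ i, LocHom σ L S (M i) (N i))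
    (h0 : ∀ i, i ∉ I → IsZero (M i)) (f : ∀ i, M i ⟶ N i) (hf : ∀ i, L.map (f i) = 0) :
    ∃ s ∈ S, ∀ i, s • f i = 0 := by
  choose s hs hs' using fun i => (h i).inj (f i) (hf i)
  refine ⟨∏ i ∈ I, s i, S.prod_mem fun i _ => hs i, fun i => ?_⟩
  by_cases hi : i ∈ I
  · rw [← Finset.prod_erase_mul _ _ hi, mul_smul, hs', smul_zero]
  · exact (h0 i hi).eq_of_src _ _

variable [L.Additive]

/-- Chain maps spread out. -/
theorem exists_chain (hL : SemiLin σ L) {P N : CochainComplex C ℤ} (a b : ℤ)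
    (hP : ∀ i, i < a ∨ b < i → IsZero (P.X i)) (h : ∀ i j, LocHom σ L S (P.X i) (N.X j))
    (θ : (L.mapHomologicalComplex (ComplexShape.up ℤ)).obj P ⟶ (L.mapHomologicalComplex (ComplexShape.up ℤ)).obj N) :
    ∃ s ∈ S, ∃ β : P ⟶ N, ∀ i, L.map (β.f i) = σ s • θ.f i := by
  let I := Finset.Icc a b
  have hI : ∀ i, i ∉ I → IsZero (P.X i) := fun i hi => hP i (by
    simp only [I, Finset.mem_Icc, not_and_or, not_le] at hi
    exact hi)
  obtain ⟨s, hs, g, hg⟩ := exists_family hL I (M := fun i => P.X i) (N := fun i => N.X i) (fun i => h i i)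
    (fun i hi => L.map_isZero (hI i hi)) (fun i => θ.f i)
  obtain ⟨t, ht, hc⟩ := exists_smul_zero (σ := σ) (L := L) I (M := fun i => P.X i) (N := fun i => N.X (i + 1))
    (fun i => h i (i + 1)) hI (fun i => g i ≫ N.d i (i + 1) - P.d i (i + 1) ≫ g (i + 1)) (fun i => by
      rw [L.map_sub, L.map_comp, L.map_comp, hg, hg, Linear.smul_comp, Linear.comp_smul, sub_eq_zero]
      congr 1
      exact θ.comm i (i + 1))
  refine ⟨t * s, S.mul_mem ht hs, { f := fun i => t • g i, comm' := ?_ }, fun i => ?_⟩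
  · rintro i j (hij : i + 1 = j)
    subst hij
    have := hc i
    rw [smul_sub, sub_eq_zero] at this
    rw [Linear.smul_comp, Linear.comp_smul, this]
  · change L.map (t • g i) = _
    rw [hL, hg, smul_smul, ← map_mul]
    rfl

/-- Rescaling an isomorphism by a unit. -/
@[simps]
def unitIso {A B : D} (u : R'ˣ) (e : A ≅ B) : A ≅ B where
  hom := (u : R') • e.hom
  inv := ((u⁻¹ : R'ˣ) : R') • e.inv
  hom_inv_id := by
    rw [Linear.smul_comp, Linear.comp_smul, smul_smul, Iso.hom_inv_id, Units.mul_inv, one_smul]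
  inv_hom_id := by
    rw [Linear.smul_comp, Linear.comp_smul, smul_smul, Iso.inv_hom_id, Units.inv_mul, one_smul]

/-- Complexes spread out. -/
theorem exists_complex (hL : SemiLin σ L) (hS : ∀ s ∈ S, IsUnit (σ s)) {P : CochainComplex D ℤ} (a b : ℤ)
    {M : ℤ → C} (hM : ∀ i, i < a ∨ b < i → IsZero (M i)) (e : ∀ i, L.obj (M i) ≅ P.X i)
    (h : ∀ i j, LocHom σ L S (M i) (M j)) :
    ∃ (d : ∀ i, M i ⟶ M (i + 1)) (hd : ∀ i, d i ≫ d (i + 1) = 0),
      Nonempty ((L.mapHomologicalComplex (ComplexShape.up ℤ)).obj (CochainComplex.of M d hd) ≅ P) := by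
  let I := Finset.Icc a b
  have hI : ∀ i, i ∉ I → IsZero (M i) := fun i hi => hM i (by
    simp only [I, Finset.mem_Icc, not_and_or, not_le] at hi
    exact hi)
  obtain ⟨s, hs, g, hg⟩ := exists_family hL I (M := M) (N := fun i => M (i + 1)) (fun i => h i (i + 1))
    (fun i hi => L.map_isZero (hI i hi)) (fun i => (e i).hom ≫ P.d i (i + 1) ≫ (e (i + 1)).inv)
  obtain ⟨t, ht, hc⟩ := exists_smul_zero (σ := σ) (L := L) I (M := M) (N := fun i => M (i + 1 + 1))
    (fun i => h i (i + 1 + 1)) hI (fun i => g i ≫ g (i + 1)) (fun i => by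
      rw [L.map_comp, hg, hg, Linear.smul_comp, Linear.comp_smul]
      simp)
  have hd : ∀ i, (t • g i) ≫ (t • g (i + 1)) = 0 := fun i => by
    rw [Linear.smul_comp, Linear.comp_smul, hc, smul_zero]
  obtain ⟨u, hu⟩ := hS _ (S.mul_mem ht hs)
  refine ⟨fun i => t • g i, hd, ⟨?_⟩⟩
  refine HomologicalComplex.Hom.isoOfComponents (fun i => (unitIso (u ^ (-i)) (e i) :)) ?_
  rintro i j (hij : i + 1 = j)
  subst hij
  change (((u ^ (-i) : R'ˣ) : R') • (e i).hom) ≫ P.d i (i + 1) =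
    L.map (CochainComplex.of.d M (fun i => t • g i) i (i + 1)) ≫ (((u ^ (-(i + 1)) : R'ˣ) : R') • (e (i + 1)).hom)
  rw [CochainComplex.of_d, hL, hg, smul_smul, ← map_mul, ← hu, Linear.smul_comp, Linear.comp_smul,
    Linear.smul_comp, smul_smul, ← Units.val_mul, ← zpow_add_one]
  simp

end K238.SpreadAbs
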