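import Groth.Agent.KSix.K238.SpreadPerf
import Groth.Agent.KSix.K238.StalkAmp
import Groth.Agent.PerfC.RHomPc175
import Groth.Agent.S0997
import Groth.Agent.S0889
import Groth.Agent.S0890
import Groth.Agent.LoccohB.HomCls
import Groth.Agent.FormalA.Support
import Groth.Agent.PerfA.PCohQCoh
import Groth.Agent.Dcoh.DerPull2

/-!
# Spreading out isomorphisms of stalks of pseudo-coherent complexes
-/

set_option autoImplicit false
universe u
open CategoryTheory CategoryTheory.Limits AlgebraicGeometry TopologicalSpace Opposite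
attribute [local instance] HasDerivedCategory.standard

namespace K238.SpreadHom

open Groth.Agent Groth.Agent.Dcoh.Stalk Groth.Agent.Dcoh.FreeSec K238.SpreadAbs K238.SpreadStalk K238.StalkD
  DerivedCategory Groth.Agent.PerfC.PcLocal Groth.Agent.LoccohB.LBC K238.StalkAmp

section Restrict

variable {U X : Scheme.{u}} (j : U ⟶ X) [IsOpenImmersion j] (u : U)

/-- `(K|_U)_u` as a base change. -/
theorem nonempty_stalkD_restrictD (K : DCoh.D X) [DRing.HasLBaseChange (j.stalkMap u).hom] :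
    Nonempty ((stalkD u).obj ((DCoh.restrictD j).obj K) ≅
      (DRing.LBaseChange (j.stalkMap u).hom).obj ((stalkD (j.base u)).obj K)) := by
  have := Dcoh.DerPull.hasLpull j
  obtain ⟨e⟩ := StalkPull.nonempty_stalkD_lpull j u K
  exact ⟨(stalkD u).mapIso ((Dcoh.DerPull.lpullOpenIso j).symm.app K) ≪≫ e⟩

theorem isZero_stalkD_restrictD (K : DCoh.D X) (h : IsZero ((stalkD (j.base u)).obj K)) :
    IsZero ((stalkD u).obj ((DCoh.restrictD j).obj K)) := by
  have := hasLBaseChange (j.stalkMap u).hom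
  obtain ⟨e⟩ := nonempty_stalkD_restrictD j u K
  have := (lbcAdj (j.stalkMap u).hom).isLeftAdjoint
  exact ((DRing.LBaseChange (j.stalkMap u).hom).map_isZero h).of_iso e

theorem nonempty_stalk_iso_restrictD {K L : DCoh.D X} (e : (stalkD (j.base u)).obj K ≅ (stalkD (j.base u)).obj L) :
    Nonempty ((stalkD u).obj ((DCoh.restrictD j).obj K) ≅ (stalkD u).obj ((DCoh.restrictD j).obj L)) := by
  have := hasLBaseChange (j.stalkMap u).hom
  obtain ⟨e1⟩ := nonempty_stalkD_restrictD j u K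
  obtain ⟨e2⟩ := nonempty_stalkD_restrictD j u L
  exact ⟨e1 ≪≫ (DRing.LBaseChange (j.stalkMap u).hom).mapIso e ≪≫ e2.symm⟩

end Restrict

theorem exists_qcoh_rep (R : CommRingCat.{u}) (K : DCoh.D (Spec R)) (hK : DCoh.IsQCohD K) :
    ∃ F : CochainComplex (Spec R).Modules ℤ, (∀ i, Coh.IsQCoh (F.X i)) ∧ Nonempty (DCoh.toD _ F ≅ K) := by
  obtain ⟨M, ⟨e⟩⟩ := ((Groth.Agent.S0997.result R).2.2 K).1 hK
  refine ⟨((tilde.functor R).mapHomologicalComplex (ComplexShape.up ℤ)).obj (Q.objPreimage M), fun i => ?_,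
    ⟨((tilde.functor R).mapDerivedCategoryFactors.app _).symm ≪≫
      (DCoh.tildeD R).mapIso (Q.objObjPreimageIso M) ≪≫ e⟩⟩
  exact inferInstanceAs (Coh.IsQCoh (tilde ((Q.objPreimage M).X i)))

/-- Maps out of a bounded complex of finite free modules spread out, up to a unit at the point. -/
theorem exists_chain_lift {X : Scheme.{u}} [IsAffine X] (x : X) {P F' : CochainComplex X.Modules ℤ} (a b : ℤ)
    (hP : DCoh.VanishesOutside P a b) (hP' : ∀ i, Dcoh.Spread.IsFree (P.X i)) (hF : ∀ i, Coh.IsQCoh (F'.X i))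
    (θ : (stalkD x).obj (Q.obj P) ⟶ (stalkD x).obj (Q.obj F')) :
    ∃ s ∈ Sx x, ∃ β : P ⟶ F', (stalkD x).map (Q.map β) = gm x s • θ := by
  let L := stalkF x
  let PL := (L.mapHomologicalComplex (ComplexShape.up ℤ)).obj P
  let FL := (L.mapHomologicalComplex (ComplexShape.up ℤ)).obj F'
  have h1 : ∀ i, Projective (PL.X i) := fun i => by
    obtain ⟨n, ⟨e⟩⟩ := hP' i
    have e' : ModuleCat.of (X.presheaf.stalk x) (Fin n → X.presheaf.stalk x) ≅ PL.X i :=
      (stalkFree n x).toModuleIso ≪≫ L.mapIso e.symm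
    exact Projective.of_iso e' ((IsProjective.iff_projective _).1 inferInstance)
  have h2 : CochainComplex.IsStrictlyLE PL b := by
    rw [CochainComplex.isStrictlyLE_iff]
    exact fun i hi => L.map_isZero (hP i (Or.inr hi))
  have h3 : CochainComplex.IsKProjective PL := CochainComplex.isKProjective_of_projective _ b
  let fP : (stalkD x).obj (Q.obj P) ≅ Q.obj PL := L.mapDerivedCategoryFactors.app P
  let fF : (stalkD x).obj (Q.obj F') ≅ Q.obj FL := L.mapDerivedCategoryFactors.app F'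
  obtain ⟨θ', hθ'⟩ := LoccohB.HomCls.Q_map_surjective_of_kProj PL FL (fP.inv ≫ θ ≫ fF.hom)
  obtain ⟨s, hs, β, hβ⟩ := exists_chain (σ := gm x) (L := L) (S := Sx x) (semiLin x) (P := P) (N := F') a b
    (fun i hi => hP i hi) (fun i j => by
      obtain ⟨n, ⟨e⟩⟩ := hP' i
      exact (locHom_free x (n := n) (hF j)).of_iso e) θ'
  refine ⟨s, hs, β, ?_⟩
  have h4 : (L.mapHomologicalComplex (ComplexShape.up ℤ)).map β = gm x s • θ' := by
    ext i : 1
    exact hβ i
  have h5 : (stalkD x).map (Q.map β) ≫ fF.hom =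
      fP.hom ≫ Q.map ((L.mapHomologicalComplex (ComplexShape.up ℤ)).map β) :=
    L.mapDerivedCategoryFactors.hom.naturality β
  rw [← cancel_mono fF.hom, h5, h4, Functor.map_smul, hθ', Linear.comp_smul, Iso.hom_inv_id_assoc,
    Linear.smul_comp]

open Pretriangulated in
/-- Maps between stalks of a pseudo-coherent complex and a bounded below one spread out, up to a unit. -/
theorem exists_lift (R : CommRingCat.{u}) (x : Spec R) {E F : DCoh.D (Spec R)} (c : ℤ)
    (hE : PerfC.RHomPc175.FreePC (c - 1) (Spec R) E) (hF : DCoh.IsQCohD F) [F.IsGE c]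
    (θ : (stalkD x).obj E ⟶ (stalkD x).obj F) :
    ∃ s ∈ Sx x, ∃ β : E ⟶ F, (stalkD x).map β = gm x s • θ := by
  obtain ⟨P₀, α₀, ⟨P, a, b, hP, hP', ⟨eP⟩⟩, h1, h2⟩ := hE
  obtain ⟨F', hF', ⟨eF⟩⟩ := exists_qcoh_rep R F hF
  let α : Q.obj P ⟶ E := eP.inv ≫ α₀
  obtain ⟨s, hs, β₀, hβ₀⟩ := exists_chain_lift x a b hP hP' hF'
    ((stalkD x).map α ≫ θ ≫ (stalkD x).map eF.inv)
  obtain ⟨C, g, h, hT⟩ := distinguished_cocone_triangle α
  have hC : C.IsLE (c - 1 - 1) := PerfC.RHomPc175.isLE_obj₃ _ hT (c - 1)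
    (fun i hi => by
      have := h1 i hi
      change IsIso ((homologyFunctor _ i).map (eP.inv ≫ α₀))
      rw [Functor.map_comp]
      infer_instance)
    (by
      change Epi ((homologyFunctor _ (c - 1)).map (eP.inv ≫ α₀))
      rw [Functor.map_comp]
      exact epi_comp _ _)
  have hC' : (C⟦(-1 : ℤ)⟧).IsLE (c - 1) :=
    DerivedCategory.TStructure.t.isLE_shift C (c - 1 - 1) (-1) (c - 1) (by lia)
  obtain ⟨β, hβ⟩ : ∃ β : E ⟶ F, Q.map β₀ ≫ eF.hom = α ≫ β :=
    Triangle.yoneda_exact₂ _ (inv_rot_of_distTriang _ hT) (Q.map β₀ ≫ eF.hom)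
      (DerivedCategory.TStructure.t.zero_of_isLE_of_isGE _ (c - 1) c (by lia) hC' inferInstance)
  refine ⟨s, hs, β, ?_⟩
  have h3 : (stalkD x).map α ≫ ((stalkD x).map β - gm x s • θ) = 0 := by
    rw [Preadditive.comp_sub, ← Functor.map_comp, ← hβ, Functor.map_comp, hβ₀, Linear.comp_smul,
      Linear.smul_comp]
    simp only [Category.assoc, ← Functor.map_comp, Iso.inv_hom_id]
    simp
  obtain ⟨t, ht⟩ := Triangle.yoneda_exact₂ _ ((stalkD x).map_distinguished _ hT)
    ((stalkD x).map β - gm x s • θ) h3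
  have hC2 : ((stalkD x).obj C).IsLE (c - 1 - 1) := (isLE_iff_stalkD C _).1 hC x
  have hF2 : ((stalkD x).obj F).IsGE c := (isGE_iff_stalkD F _).1 inferInstance x
  have ht0 : t = 0 := DerivedCategory.TStructure.t.zero_of_isLE_of_isGE t (c - 1 - 1) c (by lia) hC2 hF2
  rw [ht0, comp_zero] at ht
  exact sub_eq_zero.1 ht

/-- A bounded pseudo-coherent complex with zero stalk at `x` vanishes near `x`. -/
theorem exists_isZero_of_stalk (n : ℕ) : ∀ {X : Scheme.{u}} (x : X) (C : DCoh.D X)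
    (_ : ∀ m, DCoh.IsPseudoCoherentD m C) (a b : ℤ) (_ : b < a + n) (_ : C.IsGE a) (_ : C.IsLE b)
    (_ : IsZero ((stalkD x).obj C)), ∃ (W : Scheme.{u}) (j : W ⟶ X) (_ : IsOpenImmersion j) (w : W),
      j w = x ∧ IsZero ((DCoh.restrictD j).obj C) := by
  induction n with
  | zero =>
    intro X x C hpc a b hn _ _ h0
    have h1 : IsZero C := DerivedCategory.TStructure.t.isZero C b a (by simpa using hn)
    exact ⟨X, 𝟙 X, inferInstance, x, rfl, (DCoh.restrictD (𝟙 X)).map_isZero h1⟩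
  | succ n ih =>
    intro X x C hpc a b hn h1 h2 h0
    have hFT : CohB1.IsFT (DCoh.HD C b) :=
      (Groth.Agent.S0890.result b C (hpc b)).1 fun i hi => C.isZero_of_isLE b i hi
    have hx : x ∉ CohB1.support (DCoh.HD C b) := by
      rw [CohB1.support, Set.mem_ofPred_eq, not_not]
      have h3 := (stalkDHomology x C b).isZero_iff.1 ((homologyFunctor _ b).map_isZero h0)
      exact ModuleCat.subsingleton_of_isZero h3
    obtain ⟨U, j, hj, ⟨u, rfl⟩, h3⟩ := FormalA.Support.exists_isZero_restrict _ hFT x hx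
    have h4 : ((DCoh.restrictD j).obj C).IsGE a := PerfA.ExactD.isGE_map (Scheme.Modules.restrictFunctor j) C a
    have h5 : ((DCoh.restrictD j).obj C).IsLE (b - 1) := by
      rw [DerivedCategory.isLE_iff]
      intro i hi
      rcases (show b ≤ i by lia).eq_or_lt with rfl | hi'
      · exact h3.of_iso (Dcoh.LocalD.HDRestrict j C b)
      · exact ((Scheme.Modules.restrictFunctor j).map_isZero (C.isZero_of_isLE b i hi')).of_iso
          (Dcoh.LocalD.HDRestrict j C i)
    obtain ⟨W, k, hk, w, rfl, h6⟩ := ih u ((DCoh.restrictD j).obj C) (fun m => pc_restrict j (hpc m)) a (b - 1)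
      (by push_cast at hn; lia) h4 h5 (isZero_stalkD_restrictD j u C h0)
    exact ⟨W, k ≫ j, inferInstance, w, by simp, h6.of_iso ((Dcoh.LocalD.restrictComp k j).symm.app C)⟩

open Pretriangulated in
theorem exists_iso {X : Scheme.{u}} (x : X) (E F : DCoh.D X) (c d : ℤ) [E.IsGE c] [E.IsLE d] [F.IsGE c]
    [F.IsLE d] (hE : ∀ m, DCoh.IsPseudoCoherentD m E) (hF : ∀ m, DCoh.IsPseudoCoherentD m F)
    (e : (stalkD x).obj E ≅ (stalkD x).obj F) :
    ∃ (W : Scheme.{u}) (j : W ⟶ X) (_ : IsOpenImmersion j) (w : W), j w = x ∧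
      Nonempty ((DCoh.restrictD j).obj E ≅ (DCoh.restrictD j).obj F) := by
  obtain ⟨R, j, hj, y, rfl, h1⟩ : ∃ (R : CommRingCat.{u}) (j : Spec R ⟶ X) (_ : IsOpenImmersion j) (y : Spec R),
      j y = x ∧ PerfC.RHomPc175.FreePC (c - 1) (Spec R) ((DCoh.restrictD j).obj E) := by
    obtain ⟨V, hx, hV⟩ := PerfC.RHomPc175.locally_freePC (c - 1) (hE (c - 1)) x
    obtain ⟨V1, hV1, hx1, -⟩ := exists_isAffineOpen_mem_and_subset (X := V.toScheme) (x := ⟨x, hx⟩) (U := ⊤) trivial
    refine ⟨_, hV1.fromSpec ≫ V.ι, inferInstance, hV1.primeIdealOf ⟨⟨x, hx⟩, hx1⟩, ?_, ?_⟩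
    · rw [Scheme.Hom.comp_apply, hV1.fromSpec_primeIdealOf]
      rfl
    · exact (PerfC.RHomPc175.isStable_freePC (c - 1)).iso ((Dcoh.LocalD.restrictComp hV1.fromSpec V.ι).app E)
        ((PerfC.RHomPc175.isStable_freePC (c - 1)).restrict hV1.fromSpec _ hV)
  have hE1 : ((DCoh.restrictD j).obj E).IsGE c := PerfA.ExactD.isGE_map (Scheme.Modules.restrictFunctor j) E c
  have hF1 : ((DCoh.restrictD j).obj F).IsGE c := PerfA.ExactD.isGE_map (Scheme.Modules.restrictFunctor j) F c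
  have hE2 : ((DCoh.restrictD j).obj E).IsLE d := PerfA.ExactD.isLE_map (Scheme.Modules.restrictFunctor j) E d
  have hF2 : ((DCoh.restrictD j).obj F).IsLE d := PerfA.ExactD.isLE_map (Scheme.Modules.restrictFunctor j) F d
  have hE3 : ∀ m, DCoh.IsPseudoCoherentD m ((DCoh.restrictD j).obj E) := fun m => pc_restrict j (hE m)
  have hF3 : ∀ m, DCoh.IsPseudoCoherentD m ((DCoh.restrictD j).obj F) := fun m => pc_restrict j (hF m)
  obtain ⟨e1⟩ := nonempty_stalk_iso_restrictD j y e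
  obtain ⟨s, hs, β, hβ⟩ := exists_lift R y c h1 (PerfA.PCohQCoh.isQCohD_of_isPseudoCoherentD hF3) e1.hom
  have hβ' : IsIso ((stalkD y).map β) := by
    obtain ⟨v, hv⟩ := hs
    rw [hβ, ← hv]
    exact inferInstanceAs (IsIso (unitIso v e1).hom)
  obtain ⟨C, g, h, hT⟩ := distinguished_cocone_triangle β
  have hC : IsZero ((stalkD y).obj C) :=
    Triangle.isZero₃_of_isIso₁ _ ((stalkD y).map_distinguished _ hT) hβ'
  have hE1' : DerivedCategory.TStructure.t.IsGE (((DCoh.restrictD j).obj E)⟦(1 : ℤ)⟧) (c - 1) :=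
    DerivedCategory.TStructure.t.isGE_shift ((DCoh.restrictD j).obj E) c 1 (c - 1) (by lia)
  have hE2' : DerivedCategory.TStructure.t.IsLE (((DCoh.restrictD j).obj E)⟦(1 : ℤ)⟧) (d - 1) :=
    DerivedCategory.TStructure.t.isLE_shift ((DCoh.restrictD j).obj E) d 1 (d - 1) (by lia)
  have hC1 : C.IsGE (c - 1) := DerivedCategory.TStructure.t.isGE₂ _ (rot_of_distTriang _ hT) (c - 1)
    (DerivedCategory.TStructure.t.isGE_of_ge ((DCoh.restrictD j).obj F) (c - 1) c (by lia)) hE1'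
  have hC2 : C.IsLE d := DerivedCategory.TStructure.t.isLE₂ _ (rot_of_distTriang _ hT) d hF2
    (DerivedCategory.TStructure.t.isLE_of_le (((DCoh.restrictD j).obj E)⟦(1 : ℤ)⟧) (d - 1) d (by lia))
  have hC3 : ∀ m, DCoh.IsPseudoCoherentD m C := fun m =>
    (Groth.Agent.S0889.result m _ hT).1 (hE3 (m + 1)) (hF3 m)
  obtain ⟨W, k, hk, w, rfl, h0⟩ := exists_isZero_of_stalk (d - (c - 1) + 1).toNat y C hC3 (c - 1) d (by omega)
    hC1 hC2 hC
  have hβk : IsIso ((DCoh.restrictD k).map β) :=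
    (Triangle.isZero₃_iff_isIso₁ _ ((DCoh.restrictD k).map_distinguished _ hT)).1 h0
  exact ⟨W, k ≫ j, inferInstance, w, by simp, ⟨(Dcoh.LocalD.restrictComp k j).symm.app E ≪≫
    asIso ((DCoh.restrictD k).map β) ≪≫ (Dcoh.LocalD.restrictComp k j).app F⟩⟩

/-- An isomorphism after restriction along an open immersion is one over an open subscheme. -/
theorem exists_opens {X W : Scheme.{u}} (j : W ⟶ X) [IsOpenImmersion j] {E F : DCoh.D X}
    (e : (DCoh.restrictD j).obj E ≅ (DCoh.restrictD j).obj F) :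
    Nonempty ((DCoh.restrictD j.opensRange.ι).obj E ≅ (DCoh.restrictD j.opensRange.ι).obj F) := by
  have w : j.isoOpensRange.inv ≫ j = j.opensRange.ι := by simp
  exact ⟨(Dcoh.LocalD.restrictCompEq w).symm.app E ≪≫ (DCoh.restrictD j.isoOpensRange.inv).mapIso e ≪≫
    (Dcoh.LocalD.restrictCompEq w).app F⟩

end K238.SpreadHom
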