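import Groth.Agent.KSix.K238.SpreadStalk
import Groth.Agent.KSix.K238.PushClosed
import Groth.Agent.Dual2.K367.RingEquivD
import Groth.Agent.LoccohB.BCStep3
import Groth.Agent.PerfA.QCohEpi
import Groth.Agent.Dcoh.LocalD
import Groth.Agent.PerfC.PcLocal

/-!
# Spreading out a perfect complex over a local ring of a scheme
-/

set_option autoImplicit false
universe u
open CategoryTheory CategoryTheory.Limits AlgebraicGeometry TopologicalSpace Opposite
attribute [local instance] HasDerivedCategory.standard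

namespace K238.SpreadPerf

open Groth.Agent Groth.Agent.Dcoh.Stalk Groth.Agent.Dcoh.FreeSec K238.SpreadAbs K238.SpreadStalk K238.StalkD
  DerivedCategory Groth.Agent.PerfC.PcLocal Groth.Agent.LoccohB.LBC

section Ring

variable {A B : Type u} [CommRing A] [CommRing B]

/-- For an isomorphism of rings, base change followed by restriction is the identity. -/
theorem nonempty_restrict_lbc (φ : A →+* B) (hφ : Function.Bijective φ) [DRing.HasLBaseChange φ] (P : Dual.D A) :
    Nonempty ((DRing.restrictD φ).obj ((DRing.LBaseChange φ).obj P) ≅ P) := by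
  obtain ⟨e, rfl⟩ : ∃ e : A ≃+* B, (e : A →+* B) = φ := ⟨RingEquiv.ofBijective φ hφ, rfl⟩
  have h1 := (K367.RingEquivD.equivD e).symm.toAdjunction.leftAdjointUniq (lbcAdj (e : A →+* B))
  exact ⟨(DRing.restrictD (e : A →+* B)).mapIso (h1.symm.app P) ≪≫ (K367.RingEquivD.equivD e).counitIso.app P⟩

/-- A finite projective module over a local ring is `A^n`. -/
theorem exists_equiv_fun [IsLocalRing A] (M : Type*) [AddCommGroup M] [Module A M] [Module.Finite A M]
    [Module.Projective A M] : ∃ n : ℕ, Nonempty ((Fin n → A) ≃ₗ[A] M) := by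
  have : Module.Free A M := Module.free_of_flat_of_isLocalRing
  exact ⟨_, ⟨(Module.finBasis A M).equivFun.symm⟩⟩

end Ring

section Affine

variable {X : Scheme.{u}} [IsAffine X] (x : X)

omit [IsAffine X] in
theorem isQCoh_freeMod (n : ℕ) : Coh.IsQCoh (FlatMod.freeMod X n) :=
  PerfA.QCohEpi.isQCoh_of_isFinLocFree (isFinLocFree_freeMod n)

/-- On an affine scheme, a bounded complex of finite free modules over a local ring is the stalk of a bounded complex
of finite free modules. -/
theorem exists_complex_affine (E : DRing.Cx (X.presheaf.stalk x)) (a b : ℤ) (h1 : DRing.VanishesOutside E a b)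
    (h2 : DRing.TermwiseFiniteProjective E) :
    ∃ G : CochainComplex X.Modules ℤ, DCoh.IsStrictlyPerfect G ∧
      Nonempty (((stalkF x).mapHomologicalComplex (ComplexShape.up ℤ)).obj G ≅ E) := by
  have h3 : ∀ i, ∃ n : ℕ, Nonempty ((Fin n → X.presheaf.stalk x) ≃ₗ[X.presheaf.stalk x] E.X i) ∧
      ((i < a ∨ b < i) → n = 0) := fun i => by
    by_cases hi : i < a ∨ b < i
    · have := ModuleCat.subsingleton_of_isZero (h1 i hi)
      exact ⟨0, ⟨⟨0, 0, fun _ => Subsingleton.elim _ _, fun _ => Subsingleton.elim _ _⟩⟩, fun _ => rfl⟩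
    · have := (h2 i).1
      have := (h2 i).2
      obtain ⟨n, hn⟩ := exists_equiv_fun (A := X.presheaf.stalk x) (E.X i)
      exact ⟨n, hn, fun h => absurd h hi⟩
  choose n e hn using h3
  have e' : ∀ i, (stalkF x).obj (FlatMod.freeMod X (n i)) ≅ E.X i := fun i =>
    ((stalkFree (n i) x).symm.trans (e i).some).toModuleIso
  obtain ⟨d, hd, ⟨f⟩⟩ := exists_complex (σ := gm x) (L := stalkF x) (S := Sx x) (semiLin x) (fun s hs => hs)
    (P := E) a b (M := fun i => FlatMod.freeMod X (n i)) (fun i hi => by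
      rw [hn i hi]
      exact isZero_freeMod_zero) e' (fun i j => locHom_free x (isQCoh_freeMod (n j)))
  refine ⟨CochainComplex.of (fun i => FlatMod.freeMod X (n i)) d hd, ⟨⟨a, b, fun i hi => ?_⟩, fun i => ?_⟩, ⟨f⟩⟩
  · change IsZero (FlatMod.freeMod X (n i))
    rw [hn i hi]
    exact isZero_freeMod_zero
  · exact isFinLocFree_freeMod (n i)

theorem exists_perf_affine (P : Dual.D (X.presheaf.stalk x)) (hP : DRing.IsPerfect (X.presheaf.stalk x) P) :
    ∃ G : CochainComplex X.Modules ℤ, DCoh.IsStrictlyPerfect G ∧ Nonempty ((stalkD x).obj (DCoh.toD X G) ≅ P) := by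
  obtain ⟨E, a, b, h1, h2, ⟨e⟩⟩ := hP
  obtain ⟨G, h3, ⟨f⟩⟩ := exists_complex_affine x E a b h1 h2
  exact ⟨G, h3, ⟨(stalkF x).mapDerivedCategoryFactors.app G ≪≫ Q.mapIso f ≪≫ e⟩⟩

end Affine

/-- A perfect complex over a local ring of a scheme is the stalk of a complex which is perfect near the point. -/
theorem exists_perf {X : Scheme.{u}} (x : X) (P : Dual.D (X.presheaf.stalk x))
    (hP : DRing.IsPerfect (X.presheaf.stalk x) P) :
    ∃ (U : X.Opens) (F' : CochainComplex X.Modules ℤ), x ∈ U ∧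
      DCoh.IsPerfect (DerivedCategory.Q.obj ((DCoh.restrictCx U).obj F')) ∧
      Nonempty ((stalkD x).obj (DCoh.toD X F') ≅ P) := by
  obtain ⟨V, hV, hx, -⟩ := exists_isAffineOpen_mem_and_subset (x := x) (U := ⊤) trivial
  have : IsAffine V := hV
  let x' : V := ⟨x, hx⟩
  let φ : X.presheaf.stalk x →+* V.toScheme.presheaf.stalk x' := (V.ι.stalkMap x').hom
  have hφ : Function.Bijective φ := ConcreteCategory.bijective_of_isIso (V.ι.stalkMap x')
  have i1 := hasLBaseChange φ
  obtain ⟨G, h1, ⟨e⟩⟩ := exists_perf_affine (X := V.toScheme) x' ((DRing.LBaseChange φ).obj P) (LoccohB.BCStep3.isPerfect_lbc φ hP)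
  obtain ⟨e'⟩ := nonempty_restrict_lbc φ hφ P
  refine ⟨V, ((Scheme.Modules.pushforward V.ι).mapHomologicalComplex (ComplexShape.up ℤ)).obj G, hx, ?_, ⟨?_⟩⟩
  · have e2 : (DCoh.restrictCx V).obj
        (((Scheme.Modules.pushforward V.ι).mapHomologicalComplex (ComplexShape.up ℤ)).obj G) ≅ G :=
      (NatIso.mapHomologicalComplex (asIso (Scheme.Modules.restrictAdjunction V.ι).counit) (ComplexShape.up ℤ)).app G
    exact Dcoh.LocalD.isPerfect_of_iso (Q.mapIso e2.symm) (Dcoh.LocalD.isPerfect_Q h1)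
  · exact PushClosed.pushStalkD V.ι V.ι.isOpenEmbedding.isInducing x' G ≪≫
      (DRing.restrictD φ).mapIso e ≪≫ e'

end K238.SpreadPerf
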