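import Groth.Agent.KSix.K238.SpreadAbs
import Groth.Agent.KSix.K238.StalkD
import Groth.Agent.Fdesc.QCohStalk
import Groth.Agent.Dcoh.FreeSec
import Groth.Agent.LoccohB.SectLin303

/-!
# Spreading out from a stalk over an affine scheme

On an affine scheme, `Hom(O^n, M) → Hom(O_x^n, M_x)` is a localisation for quasi-coherent `M` (`locHom`); hence chain
maps and complexes spread out, up to a unit (`exists_chain`, `exists_complex`).
-/

set_option autoImplicit false
universe u
open CategoryTheory CategoryTheory.Limits AlgebraicGeometry TopologicalSpace Opposite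

namespace K238.SpreadStalk

open Groth.Agent Groth.Agent.Dcoh.Stalk Groth.Agent.Dcoh.FreeSec Groth.Agent.LoccohB.SectLin303
  Groth.Agent.LoccohB.GlueHom Groth.Agent.LoccohB.HHmap K238.SpreadAbs Groth.Agent.CycB.StalkExact

variable {X : Scheme.{u}} (x : X)

/-- `Γ(X, O_X) → O_{X,x}`. -/
noncomputable abbrev gm : Γ(X, ⊤) →+* X.presheaf.stalk x := (X.presheaf.germ ⊤ x trivial).hom

/-- The global functions which do not vanish at `x`. -/
noncomputable abbrev Sx : Submonoid Γ(X, ⊤) := (IsUnit.submonoid (X.presheaf.stalk x)).comap (gm x)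

lemma mem_Sx (g : Γ(X, ⊤)) : g ∈ Sx x ↔ x ∈ X.basicOpen g := (X.mem_basicOpen_top g x).symm

theorem semiLin : SemiLin (gm x) (stalkF x) := by
  intro r M N f
  ext m
  obtain ⟨V, hV, s, rfl⟩ := M.presheaf.exists_germ_eq (x := x) m
  refine (Dcoh.FlatTor.stalkF_map_germ x (r • f) V hV s).trans ?_
  rw [smul_app]
  refine (germ_smul (M := N) x hV (resO (le_top : V ≤ ⊤) r) (f.app V s)).trans ?_
  have h1 : X.presheaf.germ V x hV (resO (le_top : V ≤ ⊤) r) = X.presheaf.germ ⊤ x trivial r :=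
    TopCat.Presheaf.germ_res_apply X.presheaf (homOfLE (le_top : V ≤ ⊤)) x hV r
  rw [h1]
  exact congrArg (fun z => gm x r • z) (Dcoh.FlatTor.stalkF_map_germ x f V hV s).symm

variable [IsAffine X]

theorem locHom_free {n : ℕ} {N : X.Modules} (hN : Coh.IsQCoh N) :
    LocHom (gm x) (stalkF x) (Sx x) (FlatMod.freeMod X n) N where
  surj θ := by
    have h1 : ∀ j : Fin n, ∃ (g : Γ(X, ⊤)) (s : Γ(N, ⊤)), x ∈ X.basicOpen g ∧
        N.presheaf.germ ⊤ x trivial s = X.presheaf.germ ⊤ x trivial g •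
          (θ.hom ((FlatMod.freeMod X n).presheaf.germ ⊤ x trivial (e X j)) : N.presheaf.stalk x) := fun j =>
      Fdesc.QCohStalk.exists_germ_eq_smul N (isAffineOpen_top X) hN x trivial _
    choose g s hg hs using h1
    refine ⟨∏ j, g j, (Sx x).prod_mem fun j _ => (mem_Sx x _).2 (hg j),
      ofSecs N fun j => (∏ k ∈ Finset.univ.erase j, g k) • s j, ?_⟩
    ext1
    refine stalk_free_hom_ext (N := N.presheaf.stalk x) _ _ fun j => ?_
    refine (Dcoh.FlatTor.stalkF_map_germ x _ ⊤ trivial (e X j)).trans ?_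
    rw [ofSecs_app_e]
    refine (germ_smul (M := N) (U := ⊤) x trivial (∏ k ∈ Finset.univ.erase j, g k) (s j)).trans ?_
    rw [hs]
    have key : ∀ (z : N.presheaf.stalk x) (a b : X.presheaf.stalk x), a • b • z = (a * b) • z :=
      fun z a b => smul_smul a b z
    refine (key _ _ _).trans ?_
    have h2 : gm x (∏ k ∈ Finset.univ.erase j, g k) * gm x (g j) = gm x (∏ j, g j) := by
      rw [← map_mul, Finset.prod_erase_mul _ _ (Finset.mem_univ j)]
    exact congrArg (fun t : X.presheaf.stalk x => t •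
      (θ.hom ((FlatMod.freeMod X n).presheaf.germ ⊤ x trivial (e X j)) : N.presheaf.stalk x)) h2
  inj f hf := by
    have h1 : ∀ j : Fin n, ∃ g : Γ(X, ⊤), x ∈ X.basicOpen g ∧ g • f.app ⊤ (e X j) = 0 := fun j => by
      refine Fdesc.QCohStalk.exists_smul_eq_zero_of_germ_eq_zero N (isAffineOpen_top X) hN x trivial _ ?_
      refine (Dcoh.FlatTor.stalkF_map_germ x f ⊤ trivial (e X j)).symm.trans ?_
      rw [hf]
      rfl
    choose g hg hg' using h1
    refine ⟨∏ j, g j, (Sx x).prod_mem fun j _ => (mem_Sx x _).2 (hg j), ?_⟩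
    refine free_hom_ext _ _ fun j => ?_
    rw [smul_app]
    have h2 : resO (le_top : (⊤ : X.Opens) ≤ ⊤) (∏ j, g j) = ∏ j, g j := resO_self _ _
    rw [h2, ← Finset.prod_erase_mul _ _ (Finset.mem_univ j), mul_smul, hg', smul_zero]
    rfl

end K238.SpreadStalk
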