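import Groth.Agent.KSix.K238.StalkD
import Groth.Agent.KSix.K238.RingK
import Groth.Agent.Dcoh.DerPull
import Groth.Agent.PerfC.PullKFlat

/-!
# Stalks of derived pullbacks

`nonempty_stalkD_lpull`: `(Lf^* K)_x ≅ K_{f x} ⊗^L O_{X,x}`.
-/

set_option autoImplicit false
universe u
open CategoryTheory CategoryTheory.Limits AlgebraicGeometry
attribute [local instance] HasDerivedCategory.standard

namespace K238.StalkPull

open Groth.Agent Groth.Agent.Dcoh.Stalk Groth.Agent.PerfB.StalkKFlat K238.StalkD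
  Groth.Agent.Fdesc.PullbackStalk DerivedCategory Groth.Agent.LoccohB.BCUnit

variable {X Y Z : Scheme.{u}}

/-- `(f^* M)_x = M_{f x} ⊗ O_{X,x}` with `ModuleCat.extendScalars`. -/
noncomputable def stalkPullExt (f : X ⟶ Y) (x : X) :
    stalkF (f.base x) ⋙ ModuleCat.extendScalars.{u, u, u} (f.stalkMap x).hom ≅
      Scheme.Modules.pullback f ⋙ stalkF x :=
  letI := stalkAlg f x
  Functor.isoWhiskerLeft _ (K226.KFlat.extIso (f.stalkMap x).hom) ≪≫ stalkPull f x

/-- The same on complexes. -/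
noncomputable def stalkPullCx (f : X ⟶ Y) (x : X) (K : CochainComplex Y.Modules ℤ) :
    (extCx (f.stalkMap x).hom).obj (((stalkF (f.base x)).mapHomologicalComplex (ComplexShape.up ℤ)).obj K) ≅
      ((stalkF x).mapHomologicalComplex (ComplexShape.up ℤ)).obj
        (((Scheme.Modules.pullback f).mapHomologicalComplex (ComplexShape.up ℤ)).obj K) :=
  (NatIso.mapHomologicalComplex (stalkPullExt f x) (ComplexShape.up ℤ)).app K

/-- `(Lf^* K)_x ≅ K_{f x} ⊗^L O_{X,x}`. -/
theorem nonempty_stalkD_lpull (f : X ⟶ Y) [DCoh.HasLpull f] (x : X)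
    [DRing.HasLBaseChange (f.stalkMap x).hom] (K : DCoh.D Y) :
    Nonempty ((stalkD x).obj ((DCoh.Lpull f).obj K) ≅
      (DRing.LBaseChange (f.stalkMap x).hom).obj ((stalkD (f.base x)).obj K)) := by
  obtain ⟨L, q, h1, h2⟩ := (PerfC.PullKFlat.adapted f).exists_res (Q.objPreimage K)
  have eK : Q.obj L ≅ K := asIso (Q.map q) ≪≫ Q.objObjPreimageIso K
  have e1 : (DCoh.Lpull f).obj (Q.obj L) ≅
    Q.obj (((Scheme.Modules.pullback f).mapHomologicalComplex (ComplexShape.up ℤ)).obj L) :=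
      Dcoh.DerPull.lpullIso f L h1
  exact ⟨(stalkD x).mapIso ((DCoh.Lpull f).mapIso eK.symm ≪≫ e1) ≪≫
    (stalkF x).mapDerivedCategoryFactors.app _ ≪≫
    Q.mapIso (stalkPullCx f x L).symm ≪≫
    (RingK.lbcKflIso (f.stalkMap x).hom (kfl_stalk h1 (f.base x))).symm ≪≫
    (DRing.LBaseChange (f.stalkMap x).hom).mapIso (((stalkF (f.base x)).mapDerivedCategoryFactors.app L).symm ≪≫
      (stalkD (f.base x)).mapIso eK)⟩

end K238.StalkPull
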